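import Cfsg.Agent.Chars.Burnside
import Cfsg.Agent.OddChar.PF.OddOrder
import Mathlib.GroupTheory.IsPerfect
import Mathlib.GroupTheory.Perm.Subgroup
import Mathlib.GroupTheory.Sylow

/-!
Perfect subgroups, solvable residuals and small perfect groups.
-/

set_option autoImplicit false
set_option linter.style.haveILetI false
set_option linter.unusedSectionVars false

namespace Cfsg.Lib.OutSol

open Subgroup

universe u v w

variable {G : Type u} [Group G]

theorem exists_perfect_solvable_quotient [Finite G] (M : Subgroup G) [M.Normal]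
    (h : ∀ T : Subgroup G, Group.IsPerfect T → T ≤ M) : Group.IsSolvable (G ⧸ M) := by
  obtain ⟨n, hn⟩ := WellFoundedLT.antitone_chain_condition (derivedSeries_antitone G)
  have hp : Group.IsPerfect (derivedSeries G n) := Subgroup.isPerfect_iff.2 (by
    have e := hn (n + 1) (Nat.le_succ n)
    rw [derivedSeries_succ] at e
    exact e.symm)
  refine ⟨⟨n, ?_⟩⟩
  rw [← map_derivedSeries_eq (QuotientGroup.mk'_surjective M) n, Subgroup.map_eq_bot_iff,
    QuotientGroup.ker_mk']
  exact h _ hp

theorem isSolvable_of_noPerfect [Finite G] (h : ∀ T : Subgroup G, Group.IsPerfect T → T = ⊥) :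
    Group.IsSolvable G := by
  haveI := exists_perfect_solvable_quotient (⊥ : Subgroup G) fun T hT => (h T hT).le
  exact Group.isSolvable_of_isSolvable_injective (f := (QuotientGroup.quotientBot (G := G)).symm.toMonoidHom)
    (MulEquiv.injective _)

theorem perfect_subsingleton {T : Type u} [Group T] [Group.IsPerfect T] (h : Group.IsSolvable T) :
    ∀ t : T, t = 1 := fun t => by
  by_contra ht
  haveI : Nontrivial T := ⟨⟨t, 1, ht⟩⟩
  exact Group.IsPerfect.not_isSolvable T h

theorem perfect_hom_trivial {T : Type u} [Group T] [Group.IsPerfect T] {H : Type v} [Group H]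
    [Group.IsSolvable H] (f : T →* H) (t : T) : f t = 1 := by
  haveI := Group.IsPerfect.range f
  exact congrArg Subtype.val (perfect_subsingleton (T := f.range) inferInstance ⟨f t, t, rfl⟩)

theorem perfect_hom_trivial_comm {T : Type u} [Group T] [Group.IsPerfect T] {H : Type v} [Group H]
    (hc : ∀ a b : H, a * b = b * a) (f : T →* H) (t : T) : f t = 1 := by
  haveI := Group.isSolvable_of_comm hc
  exact perfect_hom_trivial f t

/-- A perfect group acting on `P` trivially on a solvable subgroup `M` and on the cosets of `M` acts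
trivially. -/
theorem stab_trivial {T : Type u} [Group T] [Group.IsPerfect T] {P : Type v} [Group P]
    (φ : T →* MulAut P) (M : Subgroup P) [Group.IsSolvable M] (hfix : ∀ t, ∀ m ∈ M, φ t m = m)
    (hd : ∀ t x, φ t x * x⁻¹ ∈ M) (t : T) (x : P) : φ t x = x := by
  let f : T →* M := MonoidHom.mk' (fun t => ⟨(φ t x * x⁻¹)⁻¹, M.inv_mem (hd t x)⟩) fun s t => by
    refine Subtype.ext ?_
    show (φ (s * t) x * x⁻¹)⁻¹ = (φ s x * x⁻¹)⁻¹ * (φ t x * x⁻¹)⁻¹
    rw [← _root_.mul_inv_rev, inv_inj, map_mul, MulAut.mul_apply]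
    conv_lhs => rw [show φ t x = (φ t x * x⁻¹) * x by group, map_mul, hfix s _ (hd t x)]
    rw [_root_.mul_assoc]
  have h1 : (φ t x * x⁻¹)⁻¹ = 1 := congrArg Subtype.val (perfect_hom_trivial f t)
  exact mul_inv_eq_one.1 (inv_eq_one.1 h1)

theorem isSolvable_perm_small {Ω : Type v} [Finite Ω] (h : Nat.card Ω ≤ 4) :
    Group.IsSolvable (Equiv.Perm Ω) := by
  haveI : Fintype Ω := Fintype.ofFinite Ω
  classical
  have hc : Nat.card (Equiv.Perm Ω) = (Nat.card Ω).factorial := by
    rw [Nat.card_eq_fintype_card, Fintype.card_perm, Nat.card_eq_fintype_card]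
  apply Cfsg.Lib.Chars.burnside_isSolvable 2 3 Nat.prime_two Nat.prime_three
  rw [hc]
  generalize Nat.card Ω = k at h
  interval_cases k
  exacts [⟨0, 0, rfl⟩, ⟨0, 0, rfl⟩, ⟨1, 0, rfl⟩, ⟨1, 1, rfl⟩, ⟨3, 1, rfl⟩]

theorem perfect_perm_trivial {T : Type u} [Group T] [Group.IsPerfect T] {Ω : Type v} [Finite Ω]
    (h : Nat.card Ω ≤ 4) (f : T →* Equiv.Perm Ω) (t : T) : f t = 1 := by
  haveI := isSolvable_perm_small h
  exact perfect_hom_trivial f t

/-- A group with a normal 2-subgroup of odd index is solvable. -/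
theorem isSolvable_of_normal_two [Finite G] (S : Subgroup G) [S.Normal] (hS : IsPGroup 2 S)
    (h : ¬ 2 ∣ S.index) : Group.IsSolvable G := by
  haveI : Fact (Nat.Prime 2) := ⟨Nat.prime_two⟩
  haveI : Group.IsNilpotent S := hS.isNilpotent
  haveI : Group.IsSolvable (G ⧸ S) := Cfsg.Agent.PF.isSolvable_of_odd (G ⧸ S)
    (by rw [Nat.odd_iff, ← Subgroup.index_eq_card]; omega)
  exact (Group.isSolvable_iff_subgroup_quotient S).2 ⟨inferInstance, inferInstance⟩

end Cfsg.Lib.OutSol
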