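import Cfsg.Agent.OutSol.Residual
import Cfsg.Agent.CyclicInter.Main
import Mathlib

/-!
Perfect groups fixing a quadratic map without singular vectors.
-/

set_option autoImplicit false
set_option linter.style.haveILetI false
set_option linter.unusedSectionVars false

namespace Cfsg.Lib.OutSol

open Module

universe u v w

section

variable {U : Type v} [AddCommGroup U] [Module (ZMod 2) U]
  {E : Type w} [AddCommGroup E] [Module (ZMod 2) E]

theorem add_self (u : U) : u + u = 0 := ZModModule.add_self u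

def sgn (a : ZMod 2) : ℤ := if a = 0 then 1 else -1

theorem sgn_add : ∀ a b : ZMod 2, sgn (a + b) = sgn a * sgn b := by decide

theorem sgn_one : sgn 1 = -1 := by decide

theorem zmod_two_ne : ∀ a : ZMod 2, a ≠ 0 → a = 1 := by decide

theorem sum_sgn_eq_zero [Fintype U] (f : U →ₗ[ZMod 2] ZMod 2) (hf : f ≠ 0) : ∑ x, sgn (f x) = 0 := by
  obtain ⟨x₀, hx₀⟩ : ∃ x, f x ≠ 0 := by
    by_contra hc
    push Not at hc
    exact hf (LinearMap.ext hc)
  have h := Equiv.sum_comp (Equiv.addRight x₀) (fun x => sgn (f x))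
  simp only [Equiv.coe_addRight, map_add, zmod_two_ne _ hx₀, sgn_add, sgn_one, mul_neg, mul_one,
    Finset.sum_neg_distrib] at h
  omega

/-- The polar form of a map. -/
def pol (q : U → E) (u v : U) : E := q (u + v) + q u + q v

theorem pol_comm (q : U → E) (u v : U) : pol q u v = pol q v u := by
  unfold pol; rw [add_comm u v]; abel

variable {q : U → E} (hq : ∀ u v w, pol q (u + v) w = pol q u w + pol q v w)

include hq in
theorem pol_zero (w : U) : pol q 0 w = 0 := by
  have h := hq 0 0 w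
  rw [add_zero, add_self (pol q 0 w)] at h
  exact h

include hq in
theorem q_zero : q 0 = 0 := by
  have h := pol_zero hq (0 : U)
  rw [pol, add_zero, add_assoc, add_self (q 0), add_zero] at h
  exact h

include hq in
theorem pol_self (u : U) : pol q u u = 0 := by
  rw [pol, add_self u, q_zero hq, zero_add, add_self (q u)]

theorem q_add (u v : U) : q (u + v) = q u + q v + pol q u v := by
  have h1 := add_self (q u); have h2 := add_self (q v)
  calc q (u + v) = q (u + v) + (q u + q u) + (q v + q v) := by rw [h1, h2, add_zero, add_zero]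
    _ = _ := by rw [pol]; abel

/-- The bilinear form attached to a functional on the values. -/
def form (χ : Dual (ZMod 2) E) : U →ₗ[ZMod 2] Dual (ZMod 2) U :=
  (AddMonoidHom.mk' (fun u => (AddMonoidHom.mk' (fun v => χ (pol q u v)) (fun a b => by
      rw [pol_comm q u, hq, map_add, pol_comm q a, pol_comm q b])).toZModLinearMap 2)
    (fun a b => LinearMap.ext fun v => by
      show χ (pol q (a + b) v) = χ (pol q a v) + χ (pol q b v)
      rw [hq, map_add])).toZModLinearMap 2

theorem form_apply (χ : Dual (ZMod 2) E) (u v : U) : form hq χ u v = χ (pol q u v) := rfl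

include hq in
theorem card_le_sq [Finite U] [Finite E] (hq0 : ∀ u, q u = 0 → u = 0)
    (hnd : ∀ χ : Dual (ZMod 2) E, χ ≠ 0 → ∀ u, form hq χ u = 0 → u = 0) :
    Nat.card U ≤ Nat.card (Dual (ZMod 2) E) ^ 2 := by
  classical
  haveI : Fintype U := Fintype.ofFinite U
  haveI : Finite (Dual (ZMod 2) E) := DFunLike.finite _
  haveI : Fintype (Dual (ZMod 2) E) := Fintype.ofFinite _
  set S : Dual (ZMod 2) E → ℤ := fun χ => ∑ u, sgn (χ (q u)) with hS
  have hsum : ∑ χ, S χ = Fintype.card (Dual (ZMod 2) E) := by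
    rw [hS, Finset.sum_comm, Finset.sum_eq_single (0 : U)]
    · simp [q_zero hq, sgn]
    · intro u _ hu
      refine sum_sgn_eq_zero (Dual.eval (ZMod 2) E (q u)) fun he => hu (hq0 u ?_)
      exact (Module.forall_dual_apply_eq_zero_iff (ZMod 2) (q u)).1 fun χ => LinearMap.congr_fun he χ
    · simp
  have hsq : ∀ χ : Dual (ZMod 2) E, χ ≠ 0 → S χ * S χ = Fintype.card U := by
    intro χ hχ
    have e : ∀ u : U, ∑ v, sgn (χ (q v)) * sgn (χ (q u)) = ∑ d, sgn (χ (q d)) * sgn (form hq χ d u) := fun u => by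
      rw [← Equiv.sum_comp (Equiv.addRight u)]
      refine Finset.sum_congr rfl fun d _ => ?_
      simp only [Equiv.coe_addRight]
      rw [← sgn_add, ← sgn_add, form_apply, ← map_add, ← map_add, q_add (q := q) d u]
      congr 2
      have h1 := add_self (q u)
      calc q d + q u + pol q d u + q u = q d + pol q d u + (q u + q u) := by abel
        _ = _ := by rw [h1, add_zero]
    calc S χ * S χ = ∑ u, ∑ v, sgn (χ (q v)) * sgn (χ (q u)) := by
          simp only [hS, Finset.sum_mul, Finset.mul_sum]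

      _ = ∑ u, ∑ d, sgn (χ (q d)) * sgn (form hq χ d u) := Finset.sum_congr rfl fun u _ => e u
      _ = ∑ d, sgn (χ (q d)) * ∑ u, sgn (form hq χ d u) := by
          rw [Finset.sum_comm]; simp only [Finset.mul_sum]
      _ = Fintype.card U := by
          rw [Finset.sum_eq_single (0 : U)]
          · simp [q_zero hq, sgn]
          · intro d _ hd
            rw [sum_sgn_eq_zero (form hq χ d) fun h => hd (hnd χ hχ d h), mul_zero]
          · simp
  rw [Nat.card_eq_fintype_card, Nat.card_eq_fintype_card]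
  set N := Fintype.card U
  set F := Fintype.card (Dual (ZMod 2) E) with hF
  have h0 : S 0 = N := by simp [hS, sgn, N]
  by_contra hlt
  push Not at hlt
  obtain hall | ⟨χ₁, hχ₁⟩ := em' (∃ χ : Dual (ZMod 2) E, χ ≠ 0)
  · push Not at hall
    rw [Finset.sum_eq_single 0 (fun χ _ h => absurd (hall χ) h) (by simp), h0] at hsum
    have h2 : 1 ≤ F := Fintype.card_pos
    have h3 : N = F := by exact_mod_cast hsum
    nlinarith
  set a := |S χ₁| with ha
  have hN : a * a = N := by rw [ha, abs_mul_abs_self, hsq χ₁ hχ₁]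
  have hge : ∀ χ : Dual (ZMod 2) E, χ ≠ 0 → -a ≤ S χ := fun χ hχ => by
    have h1 : |S χ| = a := (abs_eq_iff_mul_self_eq).2 (by rw [hsq χ hχ, hsq χ₁ hχ₁])
    exact h1 ▸ neg_abs_le (S χ)
  rw [← Finset.add_sum_erase _ _ (Finset.mem_univ (0 : Dual (ZMod 2) E)), h0] at hsum
  have h4 : ∑ _χ ∈ (Finset.univ.erase (0 : Dual (ZMod 2) E)), -a
      ≤ ∑ χ ∈ (Finset.univ.erase (0 : Dual (ZMod 2) E)), S χ :=
    Finset.sum_le_sum fun χ hχ => hge χ (Finset.mem_erase.1 hχ).1
  rw [Finset.sum_const, Finset.card_erase_of_mem (Finset.mem_univ _), Finset.card_univ, ← hF,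
    nsmul_eq_mul] at h4
  have h2 : 1 ≤ F := Fintype.card_pos
  push_cast [Nat.cast_sub h2] at h4
  have h5 : (F : ℤ) ^ 2 < a * a := by rw [hN]; exact_mod_cast hlt
  have ha0 : 0 ≤ a := abs_nonneg _
  have h6 : (F : ℤ) + 1 ≤ a := by nlinarith
  nlinarith

end

section

variable {T : Type u} [Group T] [Finite T] [Group.IsPerfect T]
  {U : Type v} [AddCommGroup U] [Module (ZMod 2) U] [Finite U]
  {E : Type w} [AddCommGroup E] [Module (ZMod 2) E] [Finite E]

/-- A perfect group fixing a quadratic map with no singular vectors on an irreducible module acts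
trivially. -/
theorem aniso_trivial (ρ : T →* Module.End (ZMod 2) U) (q : U → E)
    (hq : ∀ u v w, pol q (u + v) w = pol q u w + pol q v w) (hq0 : ∀ u, q u = 0 → u = 0)
    (hgen : Submodule.span (ZMod 2) (Set.range q) = ⊤) (hinv : ∀ t u, q (ρ t u) = q u)
    (hirr : ∀ W : Submodule (ZMod 2) U, (∀ t, ∀ x ∈ W, ρ t x ∈ W) → W = ⊥ ∨ W = ⊤) :
    ∀ t, ρ t = 1 := by
  classical
  by_contra hne
  push Not at hne
  obtain ⟨t₀, ht₀⟩ := hne
  have hρinv : ∀ t x, ρ t (ρ t⁻¹ x) = x := fun t x => by
    rw [← Module.End.mul_apply, ← map_mul, mul_inv_cancel, map_one]; rfl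
  have hnd : ∀ χ : Dual (ZMod 2) E, χ ≠ 0 → ∀ u, form hq χ u = 0 → u = 0 := by
    intro χ hχ
    have hst : ∀ t, ∀ x ∈ LinearMap.ker (form hq χ), ρ t x ∈ LinearMap.ker (form hq χ) := by
      intro t x hx
      rw [LinearMap.mem_ker] at hx ⊢
      ext v
      rw [form_apply, LinearMap.zero_apply, ← hρinv t v]
      have e : pol q (ρ t x) (ρ t (ρ t⁻¹ v)) = pol q x (ρ t⁻¹ v) := by
        simp only [pol, ← map_add, hinv]
      rw [e, ← form_apply hq, hx, LinearMap.zero_apply]
    rcases hirr (LinearMap.ker (form hq χ)) hst with h | h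
    · exact fun u hu => (Submodule.eq_bot_iff _).1 h u hu
    · exfalso
      let f : U →ₗ[ZMod 2] ZMod 2 := (AddMonoidHom.mk' (fun u => χ (q u)) fun a b => by
        rw [q_add (q := q) a b, map_add, map_add, ← form_apply hq χ a b,
          LinearMap.congr_fun (LinearMap.mem_ker.1 (h.ge (Submodule.mem_top (x := a)))) b,
          LinearMap.zero_apply, add_zero]).toZModLinearMap 2
      have hfinv : ∀ t u, f (ρ t u) = f u := fun t u => congrArg χ (hinv t u)
      rcases hirr (LinearMap.ker f) (fun t x hx => by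
          rw [LinearMap.mem_ker] at hx ⊢; rw [hfinv, hx]) with h' | h'
      · exact ht₀ (LinearMap.ext fun u => LinearMap.ker_eq_bot.1 h' (hfinv t₀ u))
      · refine hχ (LinearMap.ext_on_range hgen fun u => ?_)
        exact LinearMap.mem_ker.1 (h'.ge (Submodule.mem_top (x := u)))
  have hcount := card_le_sq hq hq0 hnd
  haveI : Finite (Module.End (ZMod 2) U) := DFunLike.finite _
  haveI : Finite (Dual (ZMod 2) E) := DFunLike.finite _
  let K : Subring (Module.End (ZMod 2) U) := Subring.centralizer (Set.range ρ)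
  have hKc : ∀ k ∈ K, ∀ t, ρ t * k = k * ρ t := fun k hk t => Subring.mem_centralizer_iff.1 hk _ ⟨t, rfl⟩
  have hKinj : ∀ k ∈ K, k ≠ 0 → Function.Injective k := by
    intro k hk hk0
    refine LinearMap.ker_eq_bot.1 ((hirr (LinearMap.ker k) fun t x hx => ?_).resolve_right fun h =>
      hk0 (LinearMap.ker_eq_top.1 h))
    rw [LinearMap.mem_ker] at hx ⊢
    rw [← Module.End.mul_apply, ← hKc k hk t, Module.End.mul_apply, hx, map_zero]
  have hKinv : ∀ k ∈ K, k ≠ 0 → ∀ m ∈ K, ∃ g ∈ K, g * k = m := by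
    intro k hk hk0 m hm
    have hi : Function.Injective (fun g : K => g * ⟨k, hk⟩) := fun g g' e => Subtype.ext <| LinearMap.ext fun x => by
      obtain ⟨y, rfl⟩ := (Finite.injective_iff_surjective.1 (hKinj k hk hk0)) x
      exact LinearMap.congr_fun (congrArg Subtype.val e) y
    obtain ⟨g, hg⟩ := Finite.injective_iff_surjective.1 hi ⟨m, hm⟩
    exact ⟨g, g.2, congrArg Subtype.val hg⟩
  -- the adjoints
  obtain ⟨χ₀, hχ₀⟩ : ∃ χ : Dual (ZMod 2) E, χ ≠ 0 := by
    by_contra hc
    push Not at hc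
    refine ht₀ (LinearMap.ext fun u => ?_)
    have h : ∀ x, x = (0 : U) := fun x => hq0 x
      ((Module.forall_dual_apply_eq_zero_iff (ZMod 2) (q x)).1 fun χ => by rw [hc χ, LinearMap.zero_apply])
    rw [h (ρ t₀ u)]; exact (h _).symm
  have hbij : Function.Bijective (form hq χ₀) := by
    have hi : Function.Injective (form hq χ₀) := LinearMap.ker_eq_bot.1
      ((Submodule.eq_bot_iff _).2 fun u hu => hnd χ₀ hχ₀ u (LinearMap.mem_ker.1 hu))
    exact ⟨hi, (LinearMap.injective_iff_surjective_of_finrank_eq_finrank Subspace.dual_finrank_eq.symm).1 hi⟩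
  let e₀ := LinearEquiv.ofBijective (form hq χ₀) hbij
  have he₀ : ∀ (χ : Dual (ZMod 2) E) u, form hq χ₀ (e₀.symm (form hq χ u)) = form hq χ u :=
    fun χ u => e₀.apply_symm_apply _
  have hmem : ∀ χ : Dual (ZMod 2) E, e₀.symm.toLinearMap.comp (form hq χ) ∈ K := by
    intro χ
    rw [Subring.mem_centralizer_iff]
    rintro _ ⟨t, rfl⟩
    refine LinearMap.ext fun u => hbij.1 (LinearMap.ext fun v => ?_)
    show form hq χ₀ (ρ t (e₀.symm (form hq χ u))) v = form hq χ₀ (e₀.symm (form hq χ (ρ t u))) v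
    rw [he₀, ← hρinv t v]
    have e : ∀ x y, pol q (ρ t x) (ρ t y) = pol q x y := fun x y => by
      simp only [pol, ← map_add, hinv]
    rw [form_apply, form_apply, e, e, ← form_apply hq, ← form_apply hq, he₀]
  let α : Dual (ZMod 2) E → K := fun χ => ⟨_, hmem χ⟩
  have hα : ∀ χ u v, χ₀ (pol q ((α χ).1 u) v) = χ (pol q u v) := fun χ u v => by
    rw [← form_apply hq, ← form_apply hq]
    exact LinearMap.congr_fun (he₀ χ u) v
  have hαi : Function.Injective α := by
    intro χ χ' e
    by_contra hc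
    obtain ⟨u, hu⟩ : ∃ u : U, u ≠ 0 := by
      by_contra hh
      push Not at hh
      exact ht₀ (LinearMap.ext fun u => by rw [hh (ρ t₀ u)]; exact (hh _).symm)
    refine hu (hnd (χ - χ') (sub_ne_zero.2 hc) u (LinearMap.ext fun v => ?_))
    rw [form_apply, LinearMap.sub_apply, ← hα χ u v, e, hα χ' u v, sub_self, LinearMap.zero_apply]
  have hΦK : Nat.card (Dual (ZMod 2) E) ≤ Nat.card K := Nat.card_le_card_of_injective α hαi
  have hUK : Nat.card U ≤ Nat.card K ^ 2 := hcount.trans (Nat.pow_le_pow_left hΦK 2)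
  -- stable subspaces
  have hline : ∀ P : Submodule (ZMod 2) U, P ≠ ⊤ → (∀ k ∈ K, ∀ x ∈ P, k x ∈ P) → ∀ u ∈ P, u ≠ 0 →
      ∀ x ∈ P, ∃ k ∈ K, k u = x := by
    intro P hP hKP u hu hu0 x hx
    by_contra hc
    push Not at hc
    let f : K × K → P := fun p => ⟨p.1.1 u + p.2.1 x, P.add_mem (hKP _ p.1.2 u hu) (hKP _ p.2.2 x hx)⟩
    have hf : Function.Injective f := by
      rintro ⟨a, b⟩ ⟨a', b'⟩ e
      have e' : (a.1 - a'.1) u + (b.1 - b'.1) x = 0 := by
        have e1 : a.1 u + b.1 x = a'.1 u + b'.1 x := congrArg Subtype.val e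
        rw [LinearMap.sub_apply, LinearMap.sub_apply, sub_add_sub_comm, e1, sub_self]
      have hb : b.1 = b'.1 := by
        by_contra hb
        obtain ⟨g, hg, hgk⟩ := hKinv _ (K.sub_mem b.2 b'.2) (sub_ne_zero.2 hb) 1 K.one_mem
        refine hc (-(g * (a.1 - a'.1))) (K.neg_mem (K.mul_mem hg (K.sub_mem a.2 a'.2))) ?_
        have e2 := congrArg g e'
        rw [map_add, map_zero, ← Module.End.mul_apply, ← Module.End.mul_apply, hgk,
          Module.End.one_apply, add_eq_zero_iff_eq_neg] at e2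
        rw [LinearMap.neg_apply, e2, neg_neg]
      rw [hb, sub_self, LinearMap.zero_apply, add_zero] at e'
      refine Prod.ext (Subtype.ext ?_) (Subtype.ext hb)
      by_contra ha
      exact hu0 (hKinj _ (K.sub_mem a.2 a'.2) (sub_ne_zero.2 ha) (e'.trans (map_zero _).symm))
    have h1 := Nat.card_le_card_of_injective f hf
    rw [Nat.card_prod, ← sq] at h1
    refine hP (eq_top_iff.2 fun y _ => ?_)
    obtain ⟨⟨z, hz⟩, rfl⟩ := ((Nat.bijective_iff_injective_and_card P.subtype).2 ⟨P.subtype_injective,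
      le_antisymm (Nat.card_le_card_of_injective _ P.subtype_injective) (hUK.trans h1)⟩).2 y
    exact hz
  have hkst : ∀ t : T, ∀ k ∈ K, ∀ x, ρ t x - x = 0 → ρ t (k x) - k x = 0 := fun t k hk x hx => by
    rw [← Module.End.mul_apply, hKc k hk t, Module.End.mul_apply, ← map_sub, hx, map_zero]
  have hneg : ∀ x : U, -x = x := ZModModule.neg_eq_self
  have hsub : ∀ x y : U, x - y = x + y := fun x y => by rw [sub_eq_add_neg, hneg]
  -- elements of order four
  have hfour : ∀ t : T, ρ t ^ 4 = 1 → ρ t ^ 2 = 1 := by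
    intro t h4
    by_contra h2
    set N : Module.End (ZMod 2) U := ρ t - 1 with hN
    have hNN : ∀ x, N (N x) = ρ (t * t) x - x := fun x => by
      simp only [hN, LinearMap.sub_apply, Module.End.one_apply, map_sub, map_mul, Module.End.mul_apply]
      simp only [hsub]
      calc ρ t (ρ t x) + ρ t x + (ρ t x + x) = ρ t (ρ t x) + x + (ρ t x + ρ t x) := by abel
        _ = _ := by rw [add_self, add_zero]
    have htt : ρ (t * t) = ρ t ^ 2 := by rw [map_mul, sq]
    have hN4 : ∀ x, N (N (N (N x))) = 0 := fun x => by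
      rw [hNN, hNN, map_sub, ← Module.End.mul_apply, ← map_mul]
      have e : ρ (t * t * (t * t)) = 1 := by rw [map_mul, htt, ← pow_add]; exact h4
      rw [e, Module.End.one_apply]
      simp only [hsub]
      calc x + ρ (t * t) x + (ρ (t * t) x + x) = (x + x) + (ρ (t * t) x + ρ (t * t) x) := by abel
        _ = _ := by rw [add_self, add_self, add_zero]
    obtain ⟨u, hu0, hu⟩ : ∃ u, u ≠ 0 ∧ N u = 0 := by
      by_contra hc
      push Not at hc
      have hi : Function.Injective N := LinearMap.ker_eq_bot.1 ((Submodule.eq_bot_iff _).2 fun x hx =>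
        by_contra fun h => hc x h hx)
      have hi4 : Function.Injective (N ∘ N ∘ N ∘ N) := hi.comp (hi.comp (hi.comp hi))
      exact ht₀ (LinearMap.ext fun y => hi4 (by simp [hN4]))
    have hker : ∀ x, N (N x) = 0 → N x = 0 := fun x hx => by
      have hP : LinearMap.ker (N * N) ≠ ⊤ := fun h => h2 (LinearMap.ext fun y => by
        have h' := LinearMap.mem_ker.1 (h.ge (Submodule.mem_top (x := y)))
        rw [Module.End.mul_apply, hNN, sub_eq_zero, htt] at h'
        exact h')
      obtain ⟨k, hk, rfl⟩ := hline _ hP (fun k hk y hy => by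
        rw [LinearMap.mem_ker, Module.End.mul_apply, hNN] at hy ⊢
        exact hkst _ k hk y hy) u (by rw [LinearMap.mem_ker, Module.End.mul_apply, hu, map_zero]) hu0 x
        (by rw [LinearMap.mem_ker, Module.End.mul_apply, hx])
      exact hkst t k hk u hu
    refine h2 (LinearMap.ext fun y => sub_eq_zero.1 ?_)
    rw [← htt, Module.End.one_apply, ← hNN]
    exact hker _ (hker _ (hN4 y))
  -- involutions
  have hinvol : ∀ t : T, ρ t ^ 2 = 1 → ρ t ≠ 1 → (∀ x, ρ t (ρ t x - x) - (ρ t x - x) = 0) ∧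
      Function.Surjective α ∧ ∀ y, q (ρ t y - y) = pol q y (ρ t y - y) := by
    intro t h2 hne
    set N : Module.End (ZMod 2) U := ρ t - 1 with hN
    have hNN : ∀ x, N (N x) = 0 := fun x => by
      simp only [hN, LinearMap.sub_apply, Module.End.one_apply, map_sub]
      rw [← Module.End.mul_apply, ← sq, h2, Module.End.one_apply]
      simp only [hsub]
      calc x + ρ t x + (ρ t x + x) = (x + x) + (ρ t x + ρ t x) := by abel
        _ = _ := by rw [add_self, add_self, add_zero]
    refine ⟨fun x => hNN x, ?_, fun y => ?_⟩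
    · have hne' : LinearMap.ker N ≠ ⊤ := fun h => hne (sub_eq_zero.1 (LinearMap.ker_eq_top.1 h))
      have hst : ∀ k ∈ K, ∀ x ∈ LinearMap.ker N, k x ∈ LinearMap.ker N := fun k hk x hx => by
        rw [LinearMap.mem_ker] at hx ⊢
        exact hkst t k hk x hx
      obtain ⟨x, hx⟩ : ∃ x, N x ≠ 0 := by
        by_contra hc
        push Not at hc
        exact hne' (LinearMap.ker_eq_top.2 (LinearMap.ext hc))
      have heq : LinearMap.ker N = LinearMap.range N := by
        refine le_antisymm (fun y hy => ?_) ?_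
        · obtain ⟨k, hk, rfl⟩ := hline _ hne' hst (N x) (LinearMap.mem_ker.2 (hNN x)) hx y hy
          refine ⟨k x, ?_⟩
          show ρ t (k x) - k x = k (ρ t x - x)
          rw [map_sub, ← Module.End.mul_apply, hKc k hk t, Module.End.mul_apply]
        · rintro _ ⟨z, rfl⟩
          exact LinearMap.mem_ker.2 (hNN z)
      have hc1 : Nat.card (LinearMap.ker N) ≤ Nat.card K := Nat.card_le_card_of_surjective
        (fun k : K => ⟨k.1 (N x), hst _ k.2 _ (LinearMap.mem_ker.2 (hNN x))⟩) fun y => by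
          obtain ⟨k, hk, e⟩ := hline _ hne' hst (N x) (LinearMap.mem_ker.2 (hNN x)) hx y.1 y.2
          exact ⟨⟨k, hk⟩, Subtype.ext e⟩
      have hc1' : Nat.card K ≤ Nat.card (LinearMap.ker N) := Nat.card_le_card_of_injective
        (fun k : K => ⟨k.1 (N x), hst _ k.2 _ (LinearMap.mem_ker.2 (hNN x))⟩) fun a b e => by
          by_contra hab
          refine hx (hKinj _ (K.sub_mem a.2 b.2) (sub_ne_zero.2 fun h => hab (Subtype.ext h)) ?_)
          rw [map_zero, LinearMap.sub_apply, sub_eq_zero]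
          exact congrArg Subtype.val e
      have hU : Nat.card U = Nat.card K * Nat.card K := by
        rw [Submodule.card_eq_card_quotient_mul_card (LinearMap.ker N),
          Nat.card_congr N.quotKerEquivRange.toEquiv, ← heq, le_antisymm hc1 hc1']
      have h5 : Nat.card K ≤ Nat.card (Dual (ZMod 2) E) := by
        rw [hU, ← sq] at hcount
        exact (Nat.pow_le_pow_iff_left two_ne_zero).1 hcount
      exact ((Nat.bijective_iff_injective_and_card α).2 ⟨hαi, le_antisymm hΦK h5⟩).2
    · have h := hinv t y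
      rw [show ρ t y = y + (ρ t y - y) by abel, q_add (q := q), add_assoc, add_eq_left] at h
      rw [add_eq_zero_iff_eq_neg] at h
      rw [h, ZModModule.neg_eq_self]
  have hpair : ∀ s t : T, ρ s ^ 2 = 1 → ρ t ^ 2 = 1 → ρ s ≠ 1 → ρ t ≠ 1 → ρ s ≠ ρ t →
      ρ s * ρ t = ρ t * ρ s → False := by
    intro s t hs ht hs1 ht1 hst hcom
    obtain ⟨hNs, hsur, hqs⟩ := hinvol s hs hs1
    obtain ⟨hNt, -, hqt⟩ := hinvol t ht ht1
    set F : Submodule (ZMod 2) U := LinearMap.ker (ρ s - 1)
    set F' : Submodule (ZMod 2) U := LinearMap.ker (ρ t - 1)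
    have hF : ∀ {x}, x ∈ F ↔ ρ s x - x = 0 := fun {x} => Iff.rfl
    have hF' : ∀ {x}, x ∈ F' ↔ ρ t x - x = 0 := fun {x} => Iff.rfl
    have hFne : F ≠ ⊤ := fun h => hs1 (sub_eq_zero.1 (LinearMap.ker_eq_top.1 h))
    have hF'ne : F' ≠ ⊤ := fun h => ht1 (sub_eq_zero.1 (LinearMap.ker_eq_top.1 h))
    obtain ⟨y, hy⟩ : ∃ y, ρ s y - y ≠ 0 := by
      by_contra hc
      push Not at hc
      exact hs1 (LinearMap.ext fun y => sub_eq_zero.1 (hc y))
    obtain ⟨u, hu0, hus, hut⟩ : ∃ u, u ≠ 0 ∧ u ∈ F ∧ u ∈ F' := by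
      by_cases h : ρ t (ρ s y - y) - (ρ s y - y) = 0
      · exact ⟨_, hy, hF.2 (hNs y), hF'.2 h⟩
      · refine ⟨_, h, hF.2 ?_, hF'.2 (hNt _)⟩
        rw [map_sub, ← Module.End.mul_apply, hcom, Module.End.mul_apply,
          sub_eq_zero.1 (hNs y)]
        exact sub_self _
    have hFF : F' ≤ F := fun x hx => by
      obtain ⟨k, hk, rfl⟩ := hline F' hF'ne (fun k hk x hx => hF'.2 (hkst t k hk x (hF'.1 hx))) u hut hu0 x hx
      exact hF.2 (hkst s k hk u (hF.1 hus))
    have hFF' : F ≤ F' := fun x hx => by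
      obtain ⟨k, hk, rfl⟩ := hline F hFne (fun k hk x hx => hF.2 (hkst s k hk x (hF.1 hx))) u hus hu0 x hx
      exact hF'.2 (hkst t k hk u (hF'.1 hut))
    obtain ⟨x, hx⟩ : ∃ x, x ∉ F := by
      by_contra hc
      push Not at hc
      exact hFne (eq_top_iff.2 fun x _ => hc x)
    set f := ρ s x - x with hf
    have hf0 : f ≠ 0 := fun h => hx (hF.2 h)
    have hfF : f ∈ F := hF.2 (hNs x)
    have hKN : ∀ (r : T), ∀ k ∈ K, ∀ z, ρ r (k z) - k z = k (ρ r z - z) := fun r k hk z => by
      rw [map_sub, ← Module.End.mul_apply, hKc k hk r, Module.End.mul_apply]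
    have hlineF := hline F hFne (fun k hk x hx => hF.2 (hkst s k hk x (hF.1 hx))) f hfF hf0
    obtain ⟨κ, hκ, hκf⟩ := hlineF (ρ t x - x) (hFF (hF'.2 (hNt x)))
    have hdec : ∀ z, ∃ k ∈ K, z - k x ∈ F := fun z => by
      obtain ⟨k, hk, e⟩ := hlineF (ρ s z - z) (hF.2 (hNs z))
      refine ⟨k, hk, hF.2 ?_⟩
      rw [map_sub, sub_sub_sub_comm, hKN s k hk, ← hf, e, sub_self]
    have hκ0 : κ ≠ 0 := fun h => hx (hFF (hF'.2 (by rw [← hκf, h, LinearMap.zero_apply])))
    have hκ1 : κ + 1 ≠ 0 := fun h => hst (LinearMap.ext fun z => by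
      have h1 : κ f = f := by
        have h2 := LinearMap.congr_fun h f
        rw [LinearMap.add_apply, Module.End.one_apply, LinearMap.zero_apply, add_eq_zero_iff_eq_neg, hneg] at h2
        exact h2
      obtain ⟨k, hk, hkz⟩ := hdec z
      have e1 := hF.1 hkz
      have e2 := hF'.1 (hFF' hkz)
      rw [map_sub, sub_sub_sub_comm, hKN s k hk, sub_eq_zero] at e1
      rw [map_sub, sub_sub_sub_comm, hKN t k hk, sub_eq_zero, ← hκf, h1] at e2
      exact sub_left_inj.1 (e1.trans e2.symm))
    have hg : pol q (κ x + x) (κ f) = 0 := by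
      have e1 := hqs (κ x)
      rw [hKN s κ hκ, ← hf] at e1
      have e2 := hqt x
      rw [← hκf] at e2
      rw [hq, ← e1, ← e2, add_self]
    have hsym : ∀ k ∈ K, ∀ a b, χ₀ (pol q (k a) b) = χ₀ (pol q a (k b)) := by
      intro k hk a b
      obtain ⟨χ, hχ⟩ := hsur ⟨k, hk⟩
      have e := fun a b => hα χ a b
      simp only [hχ] at e
      rw [e, pol_comm q a (k b), e, pol_comm]
    have hrad : ∀ z, χ₀ (pol q z f) = 0 := by
      intro z
      obtain ⟨k, hk, hkz⟩ := hdec z
      obtain ⟨k', hk', e⟩ := hlineF _ hkz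
      obtain ⟨g, hg1, hgk⟩ := hKinv (κ + 1) (K.add_mem hκ K.one_mem) hκ1 k hk
      have hκbij := Finite.injective_iff_surjective.1 (hKinj κ hκ hκ0)
      obtain ⟨g', hg', hκg⟩ : ∃ g' ∈ K, κ * g' = g := by
        have hi : Function.Injective (fun a : K => ⟨κ, hκ⟩ * a) := fun a b e' => Subtype.ext <| LinearMap.ext fun y =>
          hKinj κ hκ hκ0 (LinearMap.congr_fun (congrArg Subtype.val e') y)
        obtain ⟨a, ha⟩ := Finite.injective_iff_surjective.1 hi ⟨g, hg1⟩
        exact ⟨a, a.2, congrArg Subtype.val ha⟩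
      have h1 : χ₀ (pol q (k x) f) = 0 := by
        rw [← hgk, ← hκg, Module.End.mul_apply, Module.End.mul_apply, hsym κ hκ, LinearMap.add_apply,
          Module.End.one_apply]
        obtain ⟨χ, hχ⟩ := hsur ⟨g', hg'⟩
        have e' := hα χ (κ x + x) (κ f)
        simp only [hχ] at e'
        rw [e', hg, map_zero]
      have h2 : χ₀ (pol q (k' f) f) = 0 := by
        obtain ⟨χ, hχ⟩ := hsur ⟨k', hk'⟩
        have e' := hα χ f f
        simp only [hχ] at e'
        rw [e', pol_self hq, map_zero]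
      rw [show z = k' f + k x by rw [e, sub_add_cancel], hq, map_add, h1, h2, add_zero]
    exact hf0 (hnd χ₀ hχ₀ f (LinearMap.ext fun z => by
      rw [form_apply, pol_comm, hrad, LinearMap.zero_apply]))
  -- the Sylow group
  let ψ := ρ.toHomUnits
  haveI := Group.IsPerfect.range ψ
  have hRne : ¬ Subsingleton ψ.range := fun h => ht₀ (by
    have := congrArg (fun r : ψ.range => ((r : (Module.End (ZMod 2) U)ˣ) : Module.End (ZMod 2) U))
      (h.elim ⟨ψ t₀, t₀, rfl⟩ 1)
    exact this)
  obtain ⟨P⟩ : Nonempty (Sylow 2 ψ.range) := inferInstance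
  have hPcyc : ¬ IsCyclic (P : Subgroup ψ.range) := fun h => hRne
    ⟨fun a b => (perfect_subsingleton (Cfsg.Lib.CyclicInter.solvable_of_cyclic P h) a).trans
      (perfect_subsingleton (Cfsg.Lib.CyclicInter.solvable_of_cyclic P h) b).symm⟩
  have hP2 : ∀ p : (P : Subgroup ψ.range), p ^ 2 = 1 := by
    intro p
    obtain ⟨k, hk⟩ := P.isPGroup' p
    obtain ⟨t, ht⟩ := (p : ψ.range).2
    have hρt : ρ t = (((p : ψ.range) : (Module.End (ZMod 2) U)ˣ) : Module.End (ZMod 2) U) := congrArg Units.val ht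
    have hk' : ρ t ^ 2 ^ k = 1 := by
      rw [hρt, ← Units.val_pow_eq_pow_val, ← SubgroupClass.coe_pow, ← SubgroupClass.coe_pow, hk]; rfl
    have h2 : ∀ k, ρ t ^ 2 ^ k = 1 → ρ t ^ 2 = 1 := by
      intro k
      induction k with
      | zero => intro h; rw [pow_zero, pow_one] at h; rw [h, one_pow]
      | succ k ih =>
        intro h
        rcases k with _ | k
        · simpa using h
        · refine ih ?_
          have h4 : ρ (t ^ 2 ^ k) ^ 4 = 1 := by rw [map_pow, ← pow_mul, show 2 ^ k * 4 = 2 ^ (k + 1 + 1) by ring]; exact h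
          have h5 := hfour _ h4
          rwa [map_pow, ← pow_mul, ← pow_succ] at h5
    refine Subtype.ext (Subtype.ext (Units.ext ?_))
    push_cast
    rw [← hρt]
    exact h2 k hk'
  obtain ⟨a, ha⟩ : ∃ a : (P : Subgroup ψ.range), a ≠ 1 := by
    by_contra hc
    push Not at hc
    haveI : Subsingleton (P : Subgroup ψ.range) := ⟨fun a b => (hc a).trans (hc b).symm⟩
    exact hPcyc inferInstance
  obtain ⟨b, hb1, hba⟩ : ∃ b : (P : Subgroup ψ.range), b ≠ 1 ∧ b ≠ a := by
    by_contra hc
    push Not at hc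
    exact hPcyc ⟨⟨a, fun b => by
      by_cases hb : b = 1
      · exact ⟨0, by simp [hb]⟩
      · exact ⟨1, by simp [hc b hb]⟩⟩⟩
  have hcomm : a * b = b * a := by
    have hi : ∀ p : (P : Subgroup ψ.range), p⁻¹ = p := fun p => inv_eq_of_mul_eq_one_left (by rw [← sq, hP2])
    rw [← hi (a * b), _root_.mul_inv_rev, hi, hi]
  let val : (P : Subgroup ψ.range) →* Module.End (ZMod 2) U :=
    (Units.coeHom _).comp (ψ.range.subtype.comp (P : Subgroup ψ.range).subtype)
  have hval : Function.Injective val := fun p p' e => Subtype.ext (Subtype.ext (Units.ext e))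
  obtain ⟨s, hs⟩ := (a : ψ.range).2
  obtain ⟨t, ht⟩ := (b : ψ.range).2
  have es : ρ s = val a := congrArg Units.val hs
  have et : ρ t = val b := congrArg Units.val ht
  refine hpair s t (by rw [es, ← map_pow, hP2, map_one]) (by rw [et, ← map_pow, hP2, map_one])
    (fun h => ha (hval (by rw [← es, h, map_one]))) (fun h => hb1 (hval (by rw [← et, h, map_one])))
    (fun h => hba (hval (by rw [← et, ← es, h]))) (by rw [es, et, ← map_mul, hcomm, map_mul])

end

end Cfsg.Lib.OutSol
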