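import Cfsg.Agent.OutSol.Residual
import Cfsg.Agent.InvolCalc.OutSolvable
import Mathlib

/-!
Outer automorphisms and the automorphisms of a Sylow 2-subgroup that extend to the group.
-/

set_option autoImplicit false
set_option linter.style.haveILetI false
set_option linter.unusedSectionVars false

namespace Cfsg.Lib.OutSol

open Subgroup

universe u

variable {G : Type u} [Group G] [Finite G]

theorem finite_mulAut (H : Type u) [Group H] [Finite H] : Finite (MulAut H) :=
  Finite.of_injective (fun e => (e : H → H)) (fun e f h => MulEquiv.ext (congrFun h))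

/-- The automorphisms of a subgroup that extend to the group. -/
def extenders (S : Subgroup G) : Subgroup (MulAut S) where
  carrier := {φ | ∃ σ : MulAut G, ∀ x : S, (φ x : G) = σ x}
  one_mem' := ⟨1, fun x => rfl⟩
  mul_mem' := fun {a b} ⟨σ, hσ⟩ ⟨τ, hτ⟩ => ⟨σ * τ, fun x => by
    rw [MulAut.mul_apply, MulAut.mul_apply, hσ, hτ]⟩
  inv_mem' := fun {a} ⟨σ, hσ⟩ => ⟨σ⁻¹, fun x => by
    have h := hσ (a⁻¹ x)
    rw [MulAut.apply_inv_self] at h
    rw [h, MulAut.inv_apply_self]⟩

theorem mem_extenders {S : Subgroup G} {φ : MulAut S} :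
    φ ∈ extenders S ↔ ∃ σ : MulAut G, ∀ x : S, (φ x : G) = σ x := Iff.rfl

theorem normalizerHom_mem_extenders (S : Subgroup G) (g : normalizer (S : Set G)) :
    normalizerMonoidHom S g ∈ extenders S := ⟨MulAut.conj (g : G), fun _ => rfl⟩

theorem extenders_normalizer {S : Subgroup G} {φ : MulAut S} {σ : MulAut G} (h : ∀ x : S, (φ x : G) = σ x)
    (g : normalizer (S : Set G)) : ∃ hg : σ g ∈ normalizer (S : Set G),
      φ * normalizerMonoidHom S g * φ⁻¹ = normalizerMonoidHom S ⟨σ g, hg⟩ := by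
  have hg : σ g ∈ normalizer (S : Set G) := Cfsg.Lib.ZStarApps.mem_normalizer_of_maps fun a ha => by
    obtain ⟨b, hb⟩ := φ.surjective ⟨a, ha⟩
    have e : a = σ (b : G) := by rw [← h b, hb]
    rw [e, ← map_inv, ← map_mul, ← map_mul, ← h ⟨_, (mem_normalizer_iff.1 g.2 b).1 b.2⟩]
    exact SetLike.coe_mem _
  refine ⟨hg, MulEquiv.ext fun x => Subtype.ext ?_⟩
  show (φ (normalizerMonoidHom S g (φ⁻¹ x)) : G) = σ g * x * (σ g)⁻¹
  rw [h]
  show σ ((g : G) * ((φ⁻¹ x : S) : G) * (g : G)⁻¹) = _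
  rw [map_mul, map_mul, map_inv, ← h, MulAut.apply_inv_self]

theorem out_solvable_of_extenders (hO : ∀ N : Subgroup G, N.Normal → Odd (Nat.card N) → N = ⊥) (S : Sylow 2 G)
    (h : ∀ T : Subgroup (MulAut (S : Subgroup G)), Group.IsPerfect T → T ≤ extenders (S : Subgroup G) → T = ⊥) :
    Group.IsSolvable (Cfsg.Out G) := by
  haveI : Fact (Nat.Prime 2) := ⟨Nat.prime_two⟩
  haveI : Finite (MulAut G) := finite_mulAut G
  haveI : Finite (MulAut (S : Subgroup G)) := finite_mulAut _
  haveI hext : Group.IsSolvable (extenders (S : Subgroup G)) := isSolvable_of_noPerfect fun T hT => by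
    haveI := hT
    exact (Subgroup.map_eq_bot_iff_of_injective T (extenders (S : Subgroup G)).subtype_injective).1
      (h _ (Group.IsPerfect.map _) (by rintro _ ⟨x, -, rfl⟩; exact x.2))
  let N : Subgroup (MulAut G) :=
    { carrier := {σ | ∀ x, σ x ∈ (S : Subgroup G) ↔ x ∈ (S : Subgroup G)}
      one_mem' := fun x => Iff.rfl
      mul_mem' := fun {a b} (ha : ∀ x, a x ∈ (S : Subgroup G) ↔ x ∈ (S : Subgroup G))
        (hb : ∀ x, b x ∈ (S : Subgroup G) ↔ x ∈ (S : Subgroup G)) => fun x => by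
        show a (b x) ∈ _ ↔ _
        rw [ha, hb]
      inv_mem' := fun {a} (ha : ∀ x, a x ∈ (S : Subgroup G) ↔ x ∈ (S : Subgroup G)) => fun x => by
        rw [← ha (a⁻¹ x)]
        show a (a⁻¹ x) ∈ _ ↔ _
        rw [MulAut.apply_inv_self] }
  let res : N →* MulAut (S : Subgroup G) := MonoidHom.mk'
    (fun σ =>
      { toFun := fun x => ⟨(σ : MulAut G) x, (σ.2 x).2 x.2⟩
        invFun := fun x => ⟨((σ : MulAut G))⁻¹ x, (σ.2 _).1 (by rw [MulAut.apply_inv_self]; exact x.2)⟩
        left_inv := fun x => Subtype.ext (MulAut.inv_apply_self _ (σ : MulAut G) (x : G))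
        right_inv := fun x => Subtype.ext (MulAut.apply_inv_self _ (σ : MulAut G) (x : G))
        map_mul' := fun x y => Subtype.ext (map_mul (σ : MulAut G) (x : G) y) })
    (fun σ τ => MulEquiv.ext fun x => Subtype.ext rfl)
  have hker : Group.IsSolvable res.ker := by
    set C : Subgroup (MulAut G) := res.ker.map N.subtype with hC
    have hfix : ∀ s ∈ (S : Subgroup G), ∀ q ∈ C, q s = s := by
      rintro s hs _ ⟨σ, hσ, rfl⟩
      exact congrArg Subtype.val (MulEquiv.congr_fun (MonoidHom.mem_ker.1 hσ) ⟨s, hs⟩)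
    obtain ⟨T⟩ : Nonempty (Sylow 2 ↥C) := inferInstance
    obtain ⟨-, M, hM, hodd, hc⟩ := Cfsg.Lib.SylowCentralizingAut.sylow_centralizing_structure hO S C hfix T
    haveI := hM
    haveI : Group.IsSolvable M := Cfsg.Agent.PF.isSolvable_of_odd M hodd
    obtain ⟨k, hk⟩ := T.isPGroup'.exists_card_eq
    haveI : Group.IsNilpotent (↥C ⧸ M) :=
      (IsPGroup.of_card (p := 2) (n := k) (by rw [← index_eq_card, hc.symm.index_eq_card, hk])).isNilpotent
    haveI : Group.IsSolvable C := Group.isSolvable_of_ker_le_range M.subtype (QuotientGroup.mk' M) (by simp)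
    exact Group.isSolvable_of_isSolvable_injective
      (f := (res.ker.equivMapOfInjective N.subtype N.subtype_injective).toMonoidHom) (MulEquiv.injective _)
  haveI := hker
  let res' : N →* extenders (S : Subgroup G) := res.codRestrict _ fun σ => ⟨(σ : MulAut G), fun _ => rfl⟩
  haveI : Group.IsSolvable N := Group.isSolvable_of_ker_le_range res.ker.subtype res' (by
    rw [range_subtype]
    intro σ hσ
    exact congrArg Subtype.val (MonoidHom.mem_ker.1 hσ))
  refine Group.isSolvable_of_surjective (f := (QuotientGroup.mk' (Cfsg.Inn G)).comp N.subtype) fun y => ?_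
  obtain ⟨σ, rfl⟩ := QuotientGroup.mk'_surjective (Cfsg.Inn G) y
  have hσp : IsPGroup 2 ↥((S : Subgroup G).map σ.toMonoidHom) := S.isPGroup'.map _
  obtain ⟨g, -, hg⟩ := Cfsg.Lib.ZStarApps.exists_conj_mem_sylow S le_top hσp le_top
  have hmem : MulAut.conj g * σ ∈ N := by
    have hle : ((S : Subgroup G).map (MulAut.conj g * σ).toMonoidHom) = (S : Subgroup G) := by
      refine Subgroup.eq_of_le_of_card_ge ?_ (card_map_of_injective (MulAut.conj g * σ).injective).ge
      rintro _ ⟨s, hs, rfl⟩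
      exact hg (σ s) ⟨s, hs, rfl⟩
    intro x
    constructor
    · intro hx
      rw [← hle] at hx
      obtain ⟨s, hs, e⟩ := hx
      exact (MulAut.conj g * σ).injective e ▸ hs
    · intro hx
      exact hle.le ⟨x, hx, rfl⟩
  refine ⟨⟨_, hmem⟩, (QuotientGroup.eq).2 ?_⟩
  refine ⟨σ⁻¹ g⁻¹, ?_⟩
  refine MulEquiv.ext fun x => ?_
  show σ⁻¹ g⁻¹ * x * (σ⁻¹ g⁻¹)⁻¹ = ((MulAut.conj g * σ)⁻¹ * σ) x
  rw [mul_inv_rev, MulAut.mul_apply, MulAut.mul_apply, ← map_inv (MulAut.conj) g, MulAut.conj_apply]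
  simp only [map_mul, map_inv, inv_inv, MulAut.inv_apply_self]

theorem isSolvable_normalizer (S : Sylow 2 G) : Group.IsSolvable (normalizer ((S : Subgroup G) : Set G)) := by
  haveI : Fact (Nat.Prime 2) := ⟨Nat.prime_two⟩
  refine isSolvable_of_normal_two ((S : Subgroup G).subgroupOf (normalizer ((S : Subgroup G) : Set G)))
    (S.isPGroup'.of_equiv (subgroupOfEquivOfLe le_normalizer).symm) fun h => ?_
  exact S.not_dvd_index (h.trans ⟨_, (relIndex_mul_index (le_normalizer (H := (S : Subgroup G)))).symm⟩)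

end Cfsg.Lib.OutSol
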