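import Cfsg.Agent.OutSol.Known.Parts
import Cfsg.Agent.OutSol.Known.Tits

/-!
The outer automorphism group of every known simple group other than the Baby Monster and the Monster
is solvable.
-/

set_option autoImplicit false

namespace Cfsg.Lib.OutKnown

universe u

theorem isSolvable_out_of_known {X : Type u} [Group X] (hK : Cfsg.IsKnownSimple' X)
    (hB : ¬ Cfsg.Spor.IsoB X) (hM : ¬ Cfsg.Spor.IsoM X) : Group.IsSolvable (Cfsg.Out X) :=
  of_known_of_tits tits hK hB hM

end Cfsg.Lib.OutKnown
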