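import Cfsg.Agent.OutSol.Transitive
import Cfsg.Agent.PGroups.AutOrder
import Cfsg.Agent.InvolCalc.ZStarApps

/-!
Perfect subgroups of a group normalising a transitive subgroup on sixty-four vectors.
-/

set_option autoImplicit false
set_option linter.style.haveILetI false
set_option linter.unusedSectionVars false

namespace Cfsg.Lib.OutSol

open Subgroup
open scoped Pointwise

universe u v

theorem commute_range_trivial {T : Type u} [Group T] [Group.IsPerfect T] {M : Type v} [Monoid M]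
    (f : T →* M) (h : ∀ s t, f s * f t = f t * f s) (t : T) : f t = 1 := by
  have h1 := perfect_hom_trivial_comm (H := f.toHomUnits.range) (fun a b => by
    obtain ⟨s, hs⟩ := a.2
    obtain ⟨t, ht⟩ := b.2
    refine Subtype.ext (Units.ext ?_)
    show ((a : Mˣ) : M) * ((b : Mˣ) : M) = ((b : Mˣ) : M) * ((a : Mˣ) : M)
    rw [← hs, ← ht]
    exact h s t) f.toHomUnits.rangeRestrict t
  exact congrArg Units.val (congrArg Subtype.val h1)

theorem three_trivial {T : Type u} [Group T] [Group.IsPerfect T] {V : Type v} [AddCommGroup V]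
    [Module (ZMod 2) V] [Finite V] (hV : Nat.card V = 8) (Z : Module.End (ZMod 2) V) (hZ : Z ^ 7 = 1)
    (hZ1 : Z ≠ 1) (σ : T →* Module.End (ZMod 2) V) (hc : ∀ t, σ t * Z = Z * σ t) (t : T) : σ t = 1 := by
  haveI : Fact (Nat.Prime 7) := ⟨by norm_num⟩
  haveI : Finite (Module.End (ZMod 2) V) := DFunLike.finite _
  let u : (Module.End (ZMod 2) V)ˣ := Units.ofPowEqOne Z 7 hZ (by norm_num)
  let ρ : (Module.End (ZMod 2) V)ˣ →* Module.End (ZMod 2) V := Units.coeHom _
  have hup : IsPGroup 7 (zpowers u) := by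
    refine IsPGroup.of_card (n := 1) ?_
    rw [Nat.card_zpowers, pow_one]
    refine orderOf_eq_prime (Units.ext ?_) fun h => hZ1 (congrArg Units.val h)
    rw [Units.val_pow_eq_pow_val]; exact hZ
  let F : Submodule (ZMod 2) V := LinearMap.ker (Z - 1)
  have hF : ∀ x, x ∈ F ↔ Z x = x := fun x => by
    rw [LinearMap.mem_ker, LinearMap.sub_apply, Module.End.one_apply, sub_eq_zero]
  have hdvd : ∀ W : Submodule (ZMod 2) V, Nat.card W ∣ 8 := fun W => hV ▸ W.toAddSubgroup.card_addSubgroup_dvd_card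
  have hsmall : ∀ d : ℕ, d ∣ 8 → d ≡ 1 [MOD 7] → d = 1 ∨ d = 8 := fun d hd h => by
    have := Nat.le_of_dvd (by norm_num) hd
    interval_cases d <;> simp_all [Nat.ModEq] <;> omega
  have hFbot : F = ⊥ := by
    have h1 := card_modEq ρ (zpowers u) hup ⊤ (fun g _ x => by simp)
    have e : Nat.card {w : (⊤ : Submodule (ZMod 2) V) // zpowers u ≤ fixer ρ (w : V)} = Nat.card F :=
      Nat.card_congr
        { toFun := fun w => ⟨(w.1 : V), (hF _).2 (w.2 (mem_zpowers u))⟩
          invFun := fun x => ⟨⟨(x : V), trivial⟩, by rw [zpowers_le]; exact (hF _).1 x.2⟩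
          left_inv := fun w => rfl
          right_inv := fun x => rfl }
    rw [e, Nat.card_congr (Submodule.topEquiv (R := ZMod 2) (M := V)).toEquiv, hV] at h1
    rcases hsmall _ (hdvd F) (h1.symm.trans rfl) with h | h
    · exact AddSubgroup.eq_bot_of_card_eq F.toAddSubgroup h |> fun e => Submodule.toAddSubgroup_injective e
    · refine absurd (LinearMap.ext fun x => ?_) hZ1
      have : F.toAddSubgroup = ⊤ := AddSubgroup.eq_top_of_card_eq _ (h.trans hV.symm)
      exact (hF x).1 (show x ∈ F.toAddSubgroup by rw [this]; trivial)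
  have hirr : ∀ W : Submodule (ZMod 2) V, (∀ x ∈ W, Z x ∈ W) → W = ⊥ ∨ W = ⊤ := by
    intro W hW
    have h1 := card_modEq_one ρ (zpowers u) hup W (by rw [zpowers_le]; exact mem_keeper_of_maps ρ hW)
      fun x _ hx => (Submodule.eq_bot_iff F).1 hFbot x ((hF x).2 (hx (mem_zpowers u)))
    rcases hsmall _ (hdvd W) h1 with h | h
    · exact Or.inl (Submodule.toAddSubgroup_injective (AddSubgroup.eq_bot_of_card_eq W.toAddSubgroup h))
    · exact Or.inr (Submodule.toAddSubgroup_injective (AddSubgroup.eq_top_of_card_eq _ (h.trans hV.symm)))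
  exact commute_range_trivial σ (fun s t => commute_of_irreducible Z _ _ hirr (hc s) (hc t)) t

variable {X : Type u} [Group X] [Finite X] {U : Type v} [AddCommGroup U] [Module (ZMod 2) U] [Finite U]
  (ρ : X →* Module.End (ZMod 2) U)

theorem trivial_of_layers (hρ : Function.Injective ρ) (hU : Nat.card U = 64) (T : Subgroup X)
    [Group.IsPerfect T] (W : Submodule (ZMod 2) U) (hW : Nat.card W = 8) (a b : X) (ha7 : a ^ 7 = 1)
    (hb7 : b ^ 7 = 1) (hTa : ∀ t ∈ T, t * a = a * t) (hTb : ∀ t ∈ T, t * b = b * t)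
    (hT : T ≤ keeper ρ W) (hak : a ∈ keeper ρ W) (hbk : b ∈ keeper ρ W)
    (ha : ∃ w ∈ W, ρ a w ≠ w) (hb : ∃ x, ρ b x - x ∉ W) : T = ⊥ := by
  let res : ∀ g ∈ keeper ρ W, Module.End (ZMod 2) W := fun g hg =>
    (ρ g).restrict fun x hx => (hg x).2 hx
  let σW : T →* Module.End (ZMod 2) W :=
    { toFun := fun t => res t (hT t.2)
      map_one' := LinearMap.ext fun x => Subtype.ext (by show ρ ((1 : T) : X) (x : U) = (x : U); simp)
      map_mul' := fun s t => LinearMap.ext fun x => Subtype.ext (apply_mul ρ (s : X) t x) }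
  have hpow : ∀ (g : X) (hg : g ∈ keeper ρ W) (k : ℕ) (x : W), ((res g hg ^ k) x : U) = ρ (g ^ k) x := by
    intro g hg k
    induction k with
    | zero => intro x; simp
    | succ k ih => intro x; rw [pow_succ, pow_succ, Module.End.mul_apply, apply_mul, ih]; rfl
  have hcomm : ∀ (g : X), (∀ t ∈ T, t * g = g * t) → ∀ (t : T) (x : U), ρ t (ρ g x) = ρ g (ρ t x) :=
    fun g hg t x => by rw [← apply_mul, hg t t.2, apply_mul]
  have hA : ∀ t : T, σW t = 1 := three_trivial hW (res a hak)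
    (LinearMap.ext fun x => Subtype.ext (by rw [hpow a hak, ha7, map_one]; rfl))
    (fun h => by
      obtain ⟨w, hw, hne⟩ := ha
      exact hne (congrArg Subtype.val (LinearMap.congr_fun h ⟨w, hw⟩)))
    σW fun t => LinearMap.ext fun x => Subtype.ext (hcomm a hTa t x)
  have hUW : Nat.card (U ⧸ W) = 8 := by
    have h := Submodule.card_eq_card_quotient_mul_card W
    rw [hU, hW] at h
    omega
  let resQ : ∀ g ∈ keeper ρ W, Module.End (ZMod 2) (U ⧸ W) := fun g hg =>
    W.mapQ W (ρ g) fun x hx => (hg x).2 hx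
  haveI : Finite (U ⧸ W) := Finite.of_surjective _ (Submodule.Quotient.mk_surjective W)
  let σQ : T →* Module.End (ZMod 2) (U ⧸ W) :=
    { toFun := fun t => resQ t (hT t.2)
      map_one' := LinearMap.ext fun q => by
        obtain ⟨x, rfl⟩ := Submodule.Quotient.mk_surjective W q
        show Submodule.Quotient.mk (ρ ((1 : T) : X) x) = _
        simp
      map_mul' := fun s t => LinearMap.ext fun q => by
        obtain ⟨x, rfl⟩ := Submodule.Quotient.mk_surjective W q
        show Submodule.Quotient.mk (ρ ((s * t : T) : X) x) = Submodule.Quotient.mk (ρ (s : X) (ρ (t : X) x))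
        rw [Subgroup.coe_mul, apply_mul] }
  have hpowQ : ∀ (g : X) (hg : g ∈ keeper ρ W) (k : ℕ) (x : U),
      (resQ g hg ^ k) (Submodule.Quotient.mk x) = Submodule.Quotient.mk (ρ (g ^ k) x) := by
    intro g hg k
    induction k with
    | zero => intro x; simp
    | succ k ih =>
      intro x
      rw [pow_succ, pow_succ, Module.End.mul_apply, apply_mul]
      exact ih (ρ g x)
  have hB : ∀ t : T, σQ t = 1 := three_trivial hUW (resQ b hbk)
    (LinearMap.ext fun q => by
      obtain ⟨x, rfl⟩ := Submodule.Quotient.mk_surjective W q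
      rw [hpowQ b hbk, hb7, map_one]; rfl)
    (fun h => by
      obtain ⟨x, hx⟩ := hb
      exact hx ((Submodule.Quotient.eq W).1 (LinearMap.congr_fun h (Submodule.Quotient.mk x))))
    σQ fun t => LinearMap.ext fun q => by
      obtain ⟨x, rfl⟩ := Submodule.Quotient.mk_surjective W q
      show Submodule.Quotient.mk (ρ (t : X) (ρ b x)) = Submodule.Quotient.mk (ρ b (ρ (t : X) x))
      rw [hcomm b hTb]
  have hfix : ∀ (t : T), ∀ w ∈ W, ρ t w = w := fun t w hw =>
    congrArg Subtype.val (LinearMap.congr_fun (hA t) ⟨w, hw⟩)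
  have hd : ∀ (t : T) (x : U), ρ t x - x ∈ W := fun t x =>
    (Submodule.Quotient.eq W).1 (LinearMap.congr_fun (hB t) (Submodule.Quotient.mk x))
  refine (Subgroup.eq_bot_iff_forall _).2 fun t ht => hρ (LinearMap.ext fun x => ?_)
  let f : T →* Multiplicative U := MonoidHom.mk' (fun t => Multiplicative.ofAdd (ρ t x - x)) fun s t => by
    show Multiplicative.ofAdd _ = Multiplicative.ofAdd ((ρ s x - x) + (ρ t x - x))
    refine congrArg _ ?_
    have e := hfix s _ (hd t x)
    rw [map_sub] at e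
    rw [Subgroup.coe_mul, apply_mul]
    calc ρ s (ρ t x) - x = (ρ s (ρ t x) - ρ s x) + (ρ s x - x) := by abel
      _ = _ := by rw [e, add_comm]
  rw [map_one, Module.End.one_apply, ← sub_eq_zero]
  exact Multiplicative.ofAdd.injective (perfect_hom_trivial_comm (fun a b => mul_comm a b) f ⟨t, ht⟩)

theorem card_cases (hU : Nat.card U = 64) (W : Submodule (ZMod 2) U) (h : Nat.card W ≡ 1 [MOD 7]) :
    Nat.card W = 1 ∨ Nat.card W = 8 ∨ Nat.card W = 64 := by
  have hd : Nat.card W ∣ 2 ^ 6 := by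
    rw [show (2 : ℕ) ^ 6 = 64 from rfl, ← hU]
    exact W.toAddSubgroup.card_addSubgroup_dvd_card
  obtain ⟨i, hi, e⟩ := (Nat.dvd_prime_pow Nat.prime_two).1 hd
  rw [e] at h ⊢
  interval_cases i <;> simp_all [Nat.ModEq]

theorem eq_bot_of_one {W : Submodule (ZMod 2) U} (h : Nat.card W = 1) : W = ⊥ :=
  Submodule.toAddSubgroup_injective (AddSubgroup.eq_bot_of_card_eq W.toAddSubgroup h)

theorem eq_top_of_all {W : Submodule (ZMod 2) U} (h : Nat.card W = Nat.card U) : W = ⊤ :=
  Submodule.toAddSubgroup_injective (AddSubgroup.eq_top_of_card_eq _ h)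

/-- The subspace of fixed vectors of an element. -/
def fix (g : X) : Submodule (ZMod 2) U := LinearMap.ker (ρ g - 1)

theorem mem_fix {g : X} {x : U} : x ∈ fix ρ g ↔ ρ g x = x := by
  rw [fix, LinearMap.mem_ker, LinearMap.sub_apply, Module.End.one_apply, sub_eq_zero]

theorem fix_ne_top (hρ : Function.Injective ρ) {g : X} (hg : g ≠ 1) : fix ρ g ≠ ⊤ := fun h =>
  hg (hρ (LinearMap.ext fun x => by rw [map_one]; exact (mem_fix ρ).1 (h.ge trivial)))

theorem fix_card_modEq {r : ℕ} [Fact r.Prime] {g : X} (hg : g ^ r = 1) (W : Submodule (ZMod 2) U)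
    (hW : g ∈ keeper ρ W) : Nat.card W ≡ Nat.card (W ⊓ fix ρ g : Submodule (ZMod 2) U) [MOD r] := by
  have hp : IsPGroup r (zpowers g) := fun ⟨x, hx⟩ => ⟨1, Subtype.ext (by
    obtain ⟨i, rfl⟩ := mem_zpowers_iff.1 hx
    rw [pow_one, Subgroup.coe_pow, Subgroup.coe_one]
    show (g ^ i) ^ r = 1
    rw [← zpow_natCast, ← zpow_mul, mul_comm, zpow_mul, zpow_natCast, hg, one_zpow])⟩
  have h := card_modEq ρ (zpowers g) hp W (by rw [zpowers_le]; exact hW)
  rwa [Nat.card_congr (α := {w : W // zpowers g ≤ fixer ρ (w : U)}) (β := (W ⊓ fix ρ g : Submodule (ZMod 2) U))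
    { toFun := fun w => ⟨(w.1 : U), w.1.2, (mem_fix ρ).2 (w.2 (mem_zpowers g))⟩
      invFun := fun x => ⟨⟨(x : U), x.2.1⟩, by rw [zpowers_le]; exact (mem_fix ρ).1 x.2.2⟩
      left_inv := fun w => rfl
      right_inv := fun x => rfl }] at h

theorem fix_card_eight (hρ : Function.Injective ρ) (hU : Nat.card U = 64) {g : X} (hg : g ^ 7 = 1)
    (hg1 : g ≠ 1) {u : U} (hu : u ≠ 0) (hgu : ρ g u = u) : Nat.card (fix ρ g) = 8 := by
  haveI : Fact (Nat.Prime 7) := ⟨by norm_num⟩
  have h := fix_card_modEq ρ (r := 7) hg ⊤ (fun x => by simp)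
  rw [top_inf_eq, Nat.card_congr (Submodule.topEquiv (R := ZMod 2) (M := U)).toEquiv, hU] at h
  rcases card_cases hU _ (h.symm.trans rfl) with e | e | e
  · exact absurd ((Submodule.eq_bot_iff _).1 (eq_bot_of_one e) u ((mem_fix ρ).2 hgu)) hu
  · exact e
  · exact absurd (eq_top_of_all (e.trans hU.symm)) (fix_ne_top ρ hρ hg1)

theorem card_dvd_gl_six (hρ : Function.Injective ρ) (hU : Nat.card U = 64) :
    Nat.card X ∣ 20158709760 := by
  haveI : Fact (Nat.Prime 2) := ⟨Nat.prime_two⟩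
  have hrk : Module.finrank (ZMod 2) U = 6 := by
    have h := Module.natCard_eq_pow_finrank (K := ZMod 2) (V := U)
    rw [hU, Nat.card_zmod] at h
    exact (Nat.pow_right_injective le_rfl ((show (2 : ℕ) ^ 6 = 64 from rfl).trans h)).symm
  let b := Module.finBasisOfFinrankEq (ZMod 2) U hrk
  let f : X →* GL (Fin 6) (ZMod 2) :=
    (Units.map (LinearMap.toMatrixAlgEquiv b).toMulEquiv.toMonoidHom).comp ρ.toHomUnits
  have hf : Function.Injective f := fun g h e => hρ ((LinearMap.toMatrixAlgEquiv b).injective (congrArg Units.val e))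
  have h := Subgroup.card_dvd_of_injective f hf
  rw [Matrix.card_GL_field] at h
  simpa [Fin.prod_univ_six] using h

/-- A Sylow 7-subgroup of order `49` case. -/
theorem trivial_of_fortyNine (hρ : Function.Injective ρ) (hU : Nat.card U = 64) (R : Subgroup X)
    (hR : Nat.card R = 49) (hfpf : ∀ u : U, R ≤ fixer ρ u → u = 0) (T : Subgroup X) [Group.IsPerfect T]
    (hT : T ≤ normalizer (R : Set X)) : T = ⊥ := by
  classical
  haveI : Fact (Nat.Prime 7) := ⟨by norm_num⟩
  have hRcomm : ∀ a ∈ R, ∀ b ∈ R, a * b = b * a := fun a ha b hb => congrArg Subtype.val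
    ((IsPGroup.isMulCommutative_of_card_eq_prime_sq (p := 7) (show Nat.card R = 7 ^ 2 by rw [hR]; norm_num)).is_comm.comm ⟨a, ha⟩ ⟨b, hb⟩)
  have hseven : ∀ u : U, u ≠ 0 → ∀ g ∈ R ⊓ fixer ρ u, g ≠ 1 → R ⊓ fixer ρ u = zpowers g ∧ g ^ 7 = 1 := by
    intro u hu g hg hg1
    have hne : R ⊓ fixer ρ u ≠ R := fun h => hu (hfpf u (h ▸ inf_le_right))
    have hd : Nat.card (R ⊓ fixer ρ u : Subgroup X) ∣ 7 ^ 2 := by
      rw [show (7 : ℕ) ^ 2 = 49 from rfl, ← hR]; exact card_dvd_of_le inf_le_left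
    obtain ⟨i, hi, e⟩ := (Nat.dvd_prime_pow (by norm_num)).1 hd
    have hi1 : Nat.card (R ⊓ fixer ρ u : Subgroup X) = 7 := by
      interval_cases i
      · exact absurd ((Subgroup.eq_bot_iff_forall _).1 (Subgroup.eq_bot_of_card_eq _ e) g hg) hg1
      · exact e
      · exact absurd (Subgroup.eq_of_le_of_card_ge inf_le_left (by rw [e, hR]; norm_num)) hne
    have hle : zpowers g ≤ R ⊓ fixer ρ u := zpowers_le.2 hg
    have hgo : orderOf g = 7 := by
      have h1 : orderOf g ∣ 7 := by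
        rw [← hi1, ← Subgroup.orderOf_mk g hg]; exact orderOf_dvd_natCard _
      rcases (Nat.dvd_prime (by norm_num)).1 h1 with h | h
      · exact absurd (orderOf_eq_one_iff.1 h) hg1
      · exact h
    exact ⟨(Subgroup.eq_of_le_of_card_ge hle (by rw [hi1, Nat.card_zpowers, hgo])).symm, hgo ▸ pow_orderOf_eq_one g⟩
  -- a nontrivial element with a fixed vector
  obtain ⟨v, hv, a, haR, ha1, hav⟩ : ∃ v : U, v ≠ 0 ∧ ∃ a ∈ R, a ≠ 1 ∧ ρ a v = v := by
    by_contra hc
    push Not at hc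
    haveI : Nontrivial U := Finite.one_lt_card_iff_nontrivial.1 (by rw [hU]; norm_num)
    obtain ⟨u₀, hu₀⟩ := exists_ne (0 : U)
    have hinj : ∀ u : U, u ≠ 0 → Function.Injective fun g : R => ρ (g : X) u := fun u hu g h e => Subtype.ext <| by
      by_contra hgh
      refine hc u hu ((g : X)⁻¹ * h) (R.mul_mem (R.inv_mem g.2) h.2) (fun h1 => hgh (inv_mul_eq_one.1 h1)) ?_
      rw [apply_mul, ← show ρ (g : X) u = ρ (h : X) u from e, apply_inv]
    obtain ⟨u₁, hu₁⟩ : ∃ u₁, ∀ g : Option R, u₁ ≠ g.elim 0 (fun g => ρ (g : X) u₀) := by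
      by_contra hall
      push Not at hall
      have h := Nat.card_le_card_of_surjective _ (fun u => (hall u).imp fun g e => e.symm)
      rw [hU, Finite.card_option, hR] at h
      omega
    have hu₁0 : u₁ ≠ 0 := hu₁ none
    let F : Option (R ⊕ R) → U := fun o => o.elim 0 (Sum.elim (fun g => ρ (g : X) u₀) fun g => ρ (g : X) u₁)
    have hnz : ∀ (g : X) (u : U), u ≠ 0 → ρ g u ≠ 0 := fun g u hu h => hu (by rw [← apply_inv ρ g u, h, map_zero])
    have hF : Function.Injective F := by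
      rintro (_ | g | g) (_ | h | h) e
      · rfl
      · exact absurd e.symm (hnz h u₀ hu₀)
      · exact absurd e.symm (hnz h u₁ hu₁0)
      · exact absurd e (hnz g u₀ hu₀)
      · exact congrArg (fun x => some (Sum.inl x)) (hinj u₀ hu₀ e)
      · refine absurd ?_ (hu₁ (some ⟨(h : X)⁻¹ * g, R.mul_mem (R.inv_mem h.2) g.2⟩))
        show u₁ = ρ ((h : X)⁻¹ * g) u₀
        rw [apply_mul, show ρ (g : X) u₀ = ρ (h : X) u₁ from e, apply_inv]
      · exact absurd e (hnz g u₁ hu₁0)
      · refine absurd ?_ (hu₁ (some ⟨(g : X)⁻¹ * h, R.mul_mem (R.inv_mem g.2) h.2⟩))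
        show u₁ = ρ ((g : X)⁻¹ * h) u₀
        rw [apply_mul, ← show ρ (g : X) u₁ = ρ (h : X) u₀ from e, apply_inv]
      · exact congrArg (fun x => some (Sum.inr x)) (hinj u₁ hu₁0 e)
    have h := Nat.card_le_card_of_injective F hF
    rw [Finite.card_option, Nat.card_sum, hR, hU] at h
    omega
  obtain ⟨hAeq, ha7⟩ := hseven v hv a ⟨haR, hav⟩ ha1
  set W := fix ρ a with hW
  have hW8 : Nat.card W = 8 := fix_card_eight ρ hρ hU ha7 ha1 hv hav
  set G' : Submodule (ZMod 2) U := LinearMap.range (ρ a - 1) with hG'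
  have hRW : R ≤ keeper ρ W := fun g hg => mem_keeper_of_maps ρ fun w hw => by
    rw [mem_fix] at hw ⊢
    rw [← apply_mul, hRcomm a haR g hg, apply_mul, hw]
  have hRG : R ≤ keeper ρ G' := fun g hg => mem_keeper_of_maps ρ fun w hw => by
    obtain ⟨x, rfl⟩ := hw
    refine ⟨ρ g x, ?_⟩
    simp only [LinearMap.sub_apply, Module.End.one_apply, map_sub]
    rw [← apply_mul, ← apply_mul, hRcomm a haR g hg]
  have hG8 : Nat.card G' = 8 := by
    have h := Submodule.card_eq_card_quotient_mul_card W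
    rw [hU, hW8, show Nat.card (U ⧸ W) = Nat.card G' from
      Nat.card_congr (LinearMap.quotKerEquivRange (ρ a - 1)).toEquiv] at h
    omega
  have hdisj : ∀ x ∈ G', ρ a x = x → x = 0 := by
    rintro _ ⟨y, rfl⟩ hfix
    simp only [LinearMap.sub_apply, Module.End.one_apply] at hfix ⊢
    rw [map_sub, ← apply_mul, ← sq, ZModModule.sub_eq_add, ZModModule.sub_eq_add] at hfix
    have h2 : ρ (a ^ 2) y = y := by
      calc ρ (a ^ 2) y = ρ (a ^ 2) y + (ρ a y + ρ a y) := by rw [ZModModule.add_self, add_zero]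
        _ = ρ (a ^ 2) y + ρ a y + ρ a y := by abel
        _ = ρ a y + y + ρ a y := by rw [hfix]
        _ = y + (ρ a y + ρ a y) := by abel
        _ = y := by rw [ZModModule.add_self, add_zero]
    have h8 : ρ (a ^ 8) y = y := by
      rw [show (8 : ℕ) = 2 + 2 + 2 + 2 from rfl, pow_add, pow_add, pow_add, apply_mul, apply_mul, apply_mul,
        h2, h2, h2, h2]
    rw [pow_succ, ha7, one_mul] at h8
    rw [h8, sub_self]
  have hdec : ∀ x, ∃ g' ∈ G', x - g' ∈ W := by
    intro x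
    let f : G' → G' := fun g' => ⟨(ρ a - 1) (g' : U), ⟨(g' : U), rfl⟩⟩
    have hf : Function.Injective f := fun p q e => Subtype.ext <| sub_eq_zero.1 <|
      hdisj _ (G'.sub_mem p.2 q.2) <| by
        have e' : (ρ a - 1) (p : U) = (ρ a - 1) (q : U) := congrArg Subtype.val e
        rw [← sub_eq_zero, ← map_sub, LinearMap.sub_apply, Module.End.one_apply, sub_eq_zero] at e'
        exact e'
    obtain ⟨g', hg'⟩ := Finite.injective_iff_surjective.1 hf ⟨(ρ a - 1) x, ⟨x, rfl⟩⟩
    refine ⟨g', g'.2, ?_⟩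
    rw [hW, fix, LinearMap.mem_ker, map_sub, sub_eq_zero]
    exact (congrArg Subtype.val hg').symm
  -- the second subgroup
  obtain ⟨w₀, hw₀G, hw₀⟩ : ∃ w ∈ G', w ≠ 0 := by
    by_contra hc
    push Not at hc
    rw [(Submodule.eq_bot_iff G').2 hc] at hG8
    simp at hG8
  obtain ⟨b, hbR, hb1, hbw⟩ : ∃ b ∈ R, b ≠ 1 ∧ ρ b w₀ = w₀ := by
    by_contra hc
    push Not at hc
    have hi : Function.Injective fun g : R => (⟨ρ (g : X) w₀, (hRG g.2 w₀).2 hw₀G⟩ : G') := fun g h e => Subtype.ext <| by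
      by_contra hgh
      refine hc ((g : X)⁻¹ * h) (R.mul_mem (R.inv_mem g.2) h.2) (fun h1 => hgh (inv_mul_eq_one.1 h1)) ?_
      rw [apply_mul, ← show ρ (g : X) w₀ = ρ (h : X) w₀ from congrArg Subtype.val e, apply_inv]
    have h := Nat.card_le_card_of_injective _ hi
    omega
  obtain ⟨hBeq, hb7⟩ := hseven w₀ hw₀ b ⟨hbR, hbw⟩ hb1
  have hfixG : ∀ g ∈ R, g ^ 7 = 1 → ∀ x ∈ G', x ≠ 0 → ρ g x = x → ∀ y ∈ G', ρ g y = y := by
    intro g hg hg7 x hx hx0 hgx y hy
    have h := fix_card_modEq ρ (r := 7) hg7 G' (hRG hg)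
    rw [hG8] at h
    have hd : Nat.card (G' ⊓ fix ρ g : Submodule (ZMod 2) U) ≤ 8 :=
      hG8 ▸ Nat.card_le_card_of_injective _ (Submodule.inclusion_injective inf_le_left)
    rcases card_cases hU _ (h.symm.trans rfl) with e | e | e
    · exact absurd ((Submodule.eq_bot_iff _).1 (eq_bot_of_one e) x ⟨hx, (mem_fix ρ).2 hgx⟩) hx0
    · have hsur := ((Nat.bijective_iff_injective_and_card _).2
        ⟨Submodule.inclusion_injective (inf_le_left (a := G') (b := fix ρ g)), e.trans hG8.symm⟩).2 ⟨y, hy⟩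
      obtain ⟨w, hw⟩ := hsur
      have : (w : U) = y := congrArg Subtype.val hw
      exact this ▸ (mem_fix ρ).1 w.2.2
    · omega
  let A := zpowers a
  let B := zpowers b
  let S := {H : Subgroup X // H ≠ ⊥ ∧ ∃ u : U, u ≠ 0 ∧ H = R ⊓ fixer ρ u}
  have hAB : ∀ H : S, (H : Subgroup X) = A ∨ (H : Subgroup X) = B := by
    rintro ⟨H, hne, u, hu, rfl⟩
    obtain ⟨g, hg, hg1⟩ : ∃ g ∈ R ⊓ fixer ρ u, g ≠ 1 := by
      by_contra hc
      push Not at hc
      exact hne ((Subgroup.eq_bot_iff_forall _).2 hc)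
    obtain ⟨hHeq, hg7⟩ := hseven u hu g hg hg1
    obtain ⟨g', hg'G, hgW⟩ := hdec u
    obtain ⟨f, hfW, rfl⟩ : ∃ f ∈ W, u = f + g' := ⟨u - g', hgW, (sub_add_cancel u g').symm⟩
    have hgf : ρ g f = f ∧ ρ g g' = g' := by
      have e : ρ g (f + g') = f + g' := hg.2
      rw [map_add] at e
      have h1 : ρ g f - f = g' - ρ g g' := by rw [sub_eq_sub_iff_add_eq_add, e, add_comm]
      have h2 : ρ g f - f ∈ W := W.sub_mem ((hRW hg.1 f).2 hfW) hfW
      have h3 : ρ g f - f ∈ G' := h1 ▸ G'.sub_mem hg'G ((hRG hg.1 g').2 hg'G)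
      have h4 := hdisj _ h3 ((mem_fix ρ).1 h2)
      exact ⟨sub_eq_zero.1 h4, (sub_eq_zero.1 (h1 ▸ h4)).symm⟩
    show R ⊓ fixer ρ _ = A ∨ R ⊓ fixer ρ _ = B
    rw [hHeq]
    by_cases hf0 : f = 0
    · refine Or.inr ?_
      have hg'0 : g' ≠ 0 := fun h => hu (by rw [hf0, h, add_zero])
      have hgb := hfixG g hg.1 hg7 g' hg'G hg'0 hgf.2 w₀ hw₀G
      have h := (hseven w₀ hw₀ g ⟨hg.1, hgb⟩ hg1).1
      exact h.symm.trans hBeq
    · refine Or.inl ?_
      exact (hseven f hf0 g ⟨hg.1, hgf.1⟩ hg1).1.symm.trans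
        (hseven f hf0 a ⟨haR, (mem_fix ρ).1 hfW⟩ ha1).1
  have hmap : ∀ t ∈ T, ∀ u : U, (R ⊓ fixer ρ u).map (MulAut.conj t).toMonoidHom = R ⊓ fixer ρ (ρ t u) := by
    intro t ht u
    ext g
    constructor
    · rintro ⟨h, ⟨hh1, hh2⟩, rfl⟩
      refine ⟨(mem_normalizer_iff.1 (hT ht) h).1 hh1, ?_⟩
      show ρ (t * h * t⁻¹) (ρ t u) = ρ t u
      rw [apply_mul, apply_mul, apply_inv, hh2]
    · rintro ⟨hg1, hg2⟩
      have e : t * (t⁻¹ * g * t) * t⁻¹ = g := by group
      refine ⟨t⁻¹ * g * t, ⟨(mem_normalizer_iff.1 (hT ht) _).2 (by rw [e]; exact hg1), ?_⟩, e⟩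
      show ρ (t⁻¹ * g * t) u = u
      rw [apply_mul, apply_mul, (mem_fixer ρ).1 hg2, apply_inv]
  have hTS : ∀ t ∈ T, ∀ H : S, (H : Subgroup X).map (MulAut.conj t).toMonoidHom ≠ ⊥ ∧ ∃ u : U, u ≠ 0 ∧
      (H : Subgroup X).map (MulAut.conj t).toMonoidHom = R ⊓ fixer ρ u := by
    intro t ht H
    refine ⟨fun h => H.2.1 ((Subgroup.map_eq_bot_iff_of_injective _ (MulAut.conj t).injective).1 h), ?_⟩
    obtain ⟨u, hu, e⟩ := H.2.2
    exact ⟨ρ t u, fun h => hu (by rw [← apply_inv ρ t u, h, map_zero]), by rw [e, hmap t ht u]⟩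
  letI : MulAction T S :=
    { smul := fun t H => ⟨(H : Subgroup X).map (MulAut.conj (t : X)).toMonoidHom, hTS t t.2 H⟩
      one_smul := fun H => Subtype.ext (by
        show (H : Subgroup X).map (MulAut.conj ((1 : T) : X)).toMonoidHom = H
        rw [Subgroup.coe_one, map_one]
        exact Subgroup.map_id _)
      mul_smul := fun s t H => Subtype.ext (by
        show (H : Subgroup X).map (MulAut.conj ((s * t : T) : X)).toMonoidHom =
          ((H : Subgroup X).map (MulAut.conj (t : X)).toMonoidHom).map (MulAut.conj (s : X)).toMonoidHom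
        rw [Subgroup.map_map, Subgroup.coe_mul, map_mul]
        rfl) }
  have hS2 : Nat.card S ≤ 4 := by
    refine le_trans (Nat.card_le_card_of_injective (fun H : S => decide ((H : Subgroup X) = A)) fun H K e => ?_)
      (by simp)
    refine Subtype.ext ?_
    rcases hAB H with h | h <;> rcases hAB K with k | k <;> rw [h, k] <;> simp [h, k] at e <;> first | exact e | exact e.symm
  have hfixS : ∀ (g : X), g ∈ R → g ≠ 1 → ∀ u : U, u ≠ 0 → ρ g u = u → ∀ t ∈ T, t * g = g * t := by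
    intro g hg hg1 u hu hgu t ht
    obtain ⟨hH, hg7⟩ := hseven u hu g ⟨hg, hgu⟩ hg1
    have hne : R ⊓ fixer ρ u ≠ ⊥ := fun h => hg1 ((Subgroup.eq_bot_iff_forall _).1 h g ⟨hg, hgu⟩)
    have hTN : T ≤ normalizer (zpowers g : Set X) := fun s hs => by
      have h1 := Equiv.Perm.congr_fun (perfect_perm_trivial hS2 (MulAction.toPermHom T S) ⟨s, hs⟩) ⟨_, hne, u, hu, rfl⟩
      have h2 : (R ⊓ fixer ρ u).map (MulAut.conj s).toMonoidHom = R ⊓ fixer ρ u := congrArg Subtype.val h1
      rw [hH] at h2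
      rw [mem_normalizer_iff]
      intro x
      conv_rhs => rw [← h2]
      exact (Subgroup.mem_map_iff_mem (MulAut.conj s).injective).symm
    exact commute_of_normalizes (zpowers g) T hTN t ht g (mem_zpowers g)
  refine trivial_of_layers ρ hρ hU T W hW8 b a hb7 ha7 (hfixS b hbR hb1 w₀ hw₀ hbw) (hfixS a haR ha1 v hv hav)
    (fun t ht => mem_keeper_of_maps ρ fun w hw => ?_) (hRW hbR) (hRW haR) ?_ ?_
  · rw [mem_fix] at hw ⊢
    rw [← apply_mul, ← hfixS a haR ha1 v hv hav t ht, apply_mul, hw]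
  · by_contra hc
    push Not at hc
    refine hb1 (hρ (LinearMap.ext fun x => ?_))
    obtain ⟨g', hg', hx⟩ := hdec x
    rw [map_one, Module.End.one_apply, ← sub_add_cancel x g', map_add, hc _ hx,
      hfixG b hbR hb7 w₀ hw₀G hw₀ hbw g' hg']
  · refine ⟨w₀, fun h => ?_⟩
    have h' : ρ a w₀ - w₀ = 0 := hdisj _ ⟨w₀, by simp⟩ ((mem_fix ρ).1 h)
    exact hw₀ (hdisj w₀ hw₀G (sub_eq_zero.1 h'))

theorem fixed_coord : ∀ b c : ZMod 2, c = b → b + c = c → c = 0 := by decide

theorem dvd_168 {d : ℕ} (hd : d ∣ 3528) (h9 : ¬ 9 ∣ d) (h49 : ¬ 49 ∣ d) : d ∣ 168 := by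
  obtain ⟨d1, d2, h1, h2, rfl⟩ := Nat.dvd_mul.1 (show d ∣ 72 * 49 by simpa using hd)
  obtain ⟨e1, e2, he1, he2, rfl⟩ := Nat.dvd_mul.1 (show d1 ∣ 8 * 9 by simpa using h1)
  obtain ⟨i, hi, rfl⟩ := (Nat.dvd_prime_pow (p := 3) (by norm_num)).1 (show e2 ∣ 3 ^ 2 by simpa using he2)
  obtain ⟨j, hj, rfl⟩ := (Nat.dvd_prime_pow (p := 7) (by norm_num)).1 (show d2 ∣ 7 ^ 2 by simpa using h2)
  have hi1 : i ≤ 1 := by
    by_contra h
    exact h9 (dvd_mul_of_dvd_left (dvd_mul_of_dvd_right (show 9 ∣ 3 ^ i by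
      rw [show i = 2 by omega]; norm_num) _) _)
  have hj1 : j ≤ 1 := by
    by_contra h
    exact h49 (dvd_mul_of_dvd_right (show 49 ∣ 7 ^ j by rw [show j = 2 by omega]; norm_num) _)
  have h : e1 * 3 ^ i * 7 ^ j ∣ 8 * 3 * 7 := Nat.mul_dvd_mul (Nat.mul_dvd_mul he1
    (by simpa using pow_dvd_pow 3 hi1)) (by simpa using pow_dvd_pow 7 hj1)
  simpa using h

theorem burnside_dvd_392 {d : ℕ} (hd : d ∣ 392) : ∃ a b, d = 2 ^ a * 7 ^ b := by
  obtain ⟨d1, d2, h1, h2, rfl⟩ := Nat.dvd_mul.1 (show d ∣ 2 ^ 3 * 7 ^ 2 by simpa using hd)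
  obtain ⟨i, -, rfl⟩ := (Nat.dvd_prime_pow Nat.prime_two).1 h1
  obtain ⟨j, -, rfl⟩ := (Nat.dvd_prime_pow (by norm_num)).1 h2
  exact ⟨i, j, rfl⟩

set_option maxHeartbeats 2000000 in
/-- An element of order 7 whose minimal polynomial is `t ^ 3 + t + 1`: the centralizer is the linear
group of a two-dimensional space over the field with eight elements. -/
theorem le_of_cubic (hρ : Function.Injective ρ) (hU : Nat.card U = 64) (Y : Subgroup X) [Y.Normal]
    (hY49 : ¬ 49 ∣ Nat.card Y) (hY9 : 9 ∣ Nat.card Y) {z : X} (hzY : z ∈ Y) (hz : orderOf z = 7)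
    (hfp : ∀ x, ρ z x = x → x = 0) (hf : ∀ x, ρ z (ρ z (ρ z x)) = ρ z x + x)
    (T : Subgroup X) [Group.IsPerfect T] (hT : ∀ t ∈ T, t * z = z * t) : T ≤ Y := by
  classical
  haveI : Fact (Nat.Prime 7) := ⟨by norm_num⟩
  haveI : Fact (Nat.Prime 2) := ⟨Nat.prime_two⟩
  haveI : Fact (Nat.Prime 3) := ⟨Nat.prime_three⟩
  have hz7 : z ^ 7 = 1 := hz ▸ pow_orderOf_eq_one z
  have hz1 : z ≠ 1 := fun h => by rw [h, orderOf_one] at hz; omega
  set CX := centralizer ({z} : Set X) with hCX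
  have hCXmem : ∀ {g : X}, g ∈ CX ↔ g * z = z * g := fun {g} =>
    ⟨fun h => (mem_centralizer_iff.1 h z rfl).symm, fun h => mem_centralizer_iff.2 fun y hy => by
      rw [Set.mem_singleton_iff.1 hy, h]⟩
  have hfixz : fix ρ z = ⊥ := (Submodule.eq_bot_iff _).2 fun x hx => hfp x ((mem_fix ρ).1 hx)
  have hinv1 : ∀ W : Submodule (ZMod 2) U, z ∈ keeper ρ W → Nat.card W = 1 ∨ Nat.card W = 8 ∨ Nat.card W = 64 := by
    intro W hW
    have h := fix_card_modEq ρ (r := 7) hz7 W hW
    rw [hfixz, inf_bot_eq] at h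
    exact card_cases hU W (h.trans (by simp [Nat.ModEq]))
  -- the lines over the field with eight elements
  let line : U → Submodule (ZMod 2) U := fun v => Submodule.span (ZMod 2) {v, ρ z v, ρ z (ρ z v)}
  have hline_keep : ∀ v, z ∈ keeper ρ (line v) := fun v => mem_keeper_of_maps ρ fun w hw => by
    obtain ⟨a, b, c, rfl⟩ := Submodule.mem_span_triple.1 hw
    rw [map_add, map_add, map_smul, map_smul, map_smul, hf]
    exact Submodule.mem_span_triple.2 ⟨c, a + c, b, by module⟩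
  have hline_mem : ∀ v, v ∈ line v := fun v => Submodule.subset_span (Set.mem_insert _ _)
  have hline8 : ∀ v, v ≠ 0 → Nat.card (line v) = 8 := by
    intro v hv
    have hle : Nat.card (line v) ≤ 8 := by
      refine (Nat.card_le_card_of_surjective (fun p : ZMod 2 × ZMod 2 × ZMod 2 => (⟨p.1 • v + p.2.1 • ρ z v + p.2.2 • ρ z (ρ z v),
        Submodule.mem_span_triple.2 ⟨_, _, _, rfl⟩⟩ : line v)) fun y => ?_).trans (by simp [Nat.card_prod])
      obtain ⟨a, b, c, e⟩ := Submodule.mem_span_triple.1 y.2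
      exact ⟨(a, b, c), Subtype.ext e⟩
    rcases hinv1 _ (hline_keep v) with h | h | h
    · exact absurd ((Submodule.eq_bot_iff _).1 (eq_bot_of_one h) v (hline_mem v)) hv
    · exact h
    · omega
  have hlt : ∀ {P Q : Submodule (ZMod 2) U}, P ≤ Q → Nat.card Q ≤ Nat.card P → Q ≤ P := fun {P Q} hPQ h x hx => by
    obtain ⟨w, hw⟩ := ((Nat.bijective_iff_injective_and_card _).2 ⟨Submodule.inclusion_injective hPQ,
      le_antisymm (Nat.card_le_card_of_injective _ (Submodule.inclusion_injective hPQ)) h⟩).2 ⟨x, hx⟩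
    have e : (w : U) = x := congrArg Subtype.val hw
    exact e ▸ w.2
  have hdirect : ∀ v w, v ≠ 0 → w ∉ line v → line v ⊓ line w = ⊥ ∧ line v ⊔ line w = ⊤ := by
    intro v w hv hw
    have hw0 : w ≠ 0 := fun h => hw (h ▸ (line v).zero_mem)
    have hki : z ∈ keeper ρ (line v ⊓ line w) := mem_keeper_of_maps ρ fun x hx =>
      ⟨(hline_keep v x).2 hx.1, (hline_keep w x).2 hx.2⟩
    have hks : z ∈ keeper ρ (line v ⊔ line w) := mem_keeper_of_maps ρ fun x hx => by
      obtain ⟨p, hp, q, hq, rfl⟩ := Submodule.mem_sup.1 hx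
      rw [map_add]
      exact Submodule.add_mem_sup ((hline_keep v p).2 hp) ((hline_keep w q).2 hq)
    refine ⟨?_, ?_⟩
    · rcases hinv1 _ hki with h | h | h
      · exact eq_bot_of_one h
      · exact absurd ((hlt (inf_le_right : line v ⊓ line w ≤ line w) (by rw [hline8 w hw0, h])
          (hline_mem w)).1) hw
      · have := Nat.card_le_card_of_injective _ (Submodule.inclusion_injective (inf_le_left : line v ⊓ line w ≤ line v))
        rw [hline8 v hv, h] at this
        omega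
    · rcases hinv1 _ hks with h | h | h
      · exact absurd ((Submodule.eq_bot_iff _).1 (eq_bot_of_one h) w (Submodule.mem_sup_right (hline_mem w))) hw0
      · exact absurd (hlt (le_sup_left : line v ≤ line v ⊔ line w) (by rw [hline8 v hv, h])
          (Submodule.mem_sup_right (hline_mem w))) hw
      · exact eq_top_of_all (h.trans hU.symm)
  have hline_fix : ∀ g ∈ CX, ∀ v, ρ g v = v → ∀ x ∈ line v, ρ g x = x := by
    intro g hg v hv x hx
    obtain ⟨a, b, c, rfl⟩ := Submodule.mem_span_triple.1 hx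
    have h1 : ∀ y, ρ g (ρ z y) = ρ z (ρ g y) := fun y => by rw [← apply_mul, hCXmem.1 hg, apply_mul]
    simp only [map_add, map_smul, h1, hv]
  have hline_map : ∀ g ∈ CX, ∀ v, ∀ x ∈ line v, ρ g x ∈ line (ρ g v) := by
    intro g hg v x hx
    obtain ⟨a, b, c, rfl⟩ := Submodule.mem_span_triple.1 hx
    have h1 : ∀ y, ρ g (ρ z y) = ρ z (ρ g y) := fun y => by rw [← apply_mul, hCXmem.1 hg, apply_mul]
    simp only [map_add, map_smul, h1]
    exact Submodule.mem_span_triple.2 ⟨a, b, c, rfl⟩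
  -- the order of the centralizer
  have hcardCX : Nat.card CX ∣ 3528 := by
    let P := Σ v : {v : U // v ≠ 0}, {w : U // w ∉ line (v : U)}
    have hnz : ∀ (g : X) (v : U), v ≠ 0 → ρ g v ≠ 0 := fun g v hv h => hv (by rw [← apply_inv ρ g v, h, map_zero])
    have hnl : ∀ (g : CX) (p : P), ρ (g : X) (p.2 : U) ∉ line (ρ (g : X) (p.1 : U)) := fun g p h => p.2.2 (by
      have h' := hline_map (g : X)⁻¹ (CX.inv_mem g.2) _ _ h
      rwa [apply_inv, apply_inv] at h')
    letI : MulAction CX P :=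
      { smul := fun g p => ⟨⟨ρ (g : X) (p.1 : U), hnz g _ p.1.2⟩, ⟨ρ (g : X) (p.2 : U), hnl g p⟩⟩
        one_smul := fun p => by
          obtain ⟨⟨v, hv⟩, ⟨w, hw⟩⟩ := p
          refine Sigma.subtype_ext (Subtype.ext ?_) ?_ <;> · show ρ ((1 : CX) : X) _ = _; simp
        mul_smul := fun g h p => by
          refine Sigma.subtype_ext (Subtype.ext ?_) ?_ <;> exact apply_mul ρ (g : X) h _ }
    have h := Cfsg.Lib.PGroups.card_dvd_of_free (A := CX) (X := P) fun g p hgp => Subtype.ext <| hρ <| by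
      have h1 : ρ (g : X) (p.1 : U) = (p.1 : U) := congrArg (fun q : P => (q.1 : U)) hgp
      have h2 : ρ (g : X) (p.2 : U) = (p.2 : U) := congrArg (fun q : P => (q.2 : U)) hgp
      rw [Subgroup.coe_one, map_one]
      refine LinearMap.ext fun x => ?_
      obtain ⟨a, ha, b, hb, rfl⟩ := Submodule.mem_sup.1 ((hdirect _ _ p.1.2 p.2.2).2.ge (Submodule.mem_top (x := x)))
      rw [map_add, Module.End.one_apply, hline_fix _ g.2 _ h1 a ha, hline_fix _ g.2 _ h2 b hb]
    haveI := Fintype.ofFinite U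
    have hcP : Nat.card P = 3528 := by
      rw [Nat.card_sigma]
      rw [Finset.sum_congr rfl fun v _ => show Nat.card {w : U // w ∉ line ((v : {v : U // v ≠ 0}) : U)} = 56 by
        have h8 := hline8 v.1 v.2
        rw [Nat.card_eq_fintype_card, Fintype.card_subtype_compl, ← Nat.card_eq_fintype_card, hU,
          ← Nat.card_eq_fintype_card]
        exact (congrArg (64 - ·) h8).trans rfl]
      rw [Finset.sum_const, Finset.card_univ, Fintype.card_subtype_compl, Fintype.card_subtype_eq,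
        ← Nat.card_eq_fintype_card, hU]
      rfl
    rwa [hcP] at h
  set L := Y ⊓ CX with hL
  have hTCX : T ≤ CX := fun t ht => hCXmem.2 (hT t ht)
  have hL9 : 9 ∣ Nat.card L → T ≤ Y := by
    intro h9 t ht
    haveI : (L.subgroupOf CX).Normal := ⟨fun x hx g => by
      rw [mem_subgroupOf] at hx ⊢
      exact ⟨by simpa using ‹Y.Normal›.conj_mem _ hx.1 g, (g * x * g⁻¹).2⟩⟩
    have hcl : Nat.card (L.subgroupOf CX) = Nat.card L := Nat.card_congr (subgroupOfEquivOfLe inf_le_right).toEquiv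
    have hdiv : Nat.card (CX ⧸ L.subgroupOf CX) ∣ 392 := by
      obtain ⟨k, hk⟩ := h9
      have h1 := Subgroup.card_eq_card_quotient_mul_card_subgroup (L.subgroupOf CX)
      rw [hcl, hk] at h1
      have h2 : 9 * (Nat.card (CX ⧸ L.subgroupOf CX) * k) ∣ 9 * 392 := by
        rw [show 9 * (Nat.card (CX ⧸ L.subgroupOf CX) * k) = Nat.card CX by rw [h1]; ring]
        simpa using hcardCX
      exact (dvd_mul_right _ k).trans ((Nat.mul_dvd_mul_iff_left (by norm_num)).1 h2)
    haveI : Group.IsSolvable (CX ⧸ L.subgroupOf CX) :=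
      Cfsg.Lib.Chars.burnside_isSolvable 2 7 Nat.prime_two (by norm_num) _ (burnside_dvd_392 hdiv)
    have h := perfect_hom_trivial ((QuotientGroup.mk' (L.subgroupOf CX)).comp (Subgroup.inclusion hTCX)) ⟨t, ht⟩
    exact ((QuotientGroup.eq_one_iff _).1 h).1
  by_cases h9 : 9 ∣ Nat.card L
  · exact hL9 h9
  by_cases hnc : ∀ y ∈ Y, y ∈ normalizer (zpowers z : Set X) → y * z = z * y
  · -- a normal complement
    exfalso
    apply h9
    have hY7 : 7 ∣ Nat.card Y := hz ▸ (Subgroup.orderOf_mk z hzY ▸ orderOf_dvd_natCard (⟨z, hzY⟩ : Y))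
    let zY : Y := ⟨z, hzY⟩
    have hzY7 : orderOf zY = 7 := (Subgroup.orderOf_mk z hzY).trans hz
    have hfac : (Nat.card Y).factorization 7 = 1 := by
      have h1 : 1 ≤ (Nat.card Y).factorization 7 := Nat.Prime.factorization_pos_of_dvd (by norm_num) Nat.card_pos.ne' hY7
      refine le_antisymm (Nat.le_of_not_lt fun h2 => hY49 ?_) h1
      exact (show (49 : ℕ) = 7 ^ 2 from rfl) ▸ (pow_dvd_pow 7 h2).trans (Nat.ordProj_dvd _ 7)
    let P : Sylow 7 Y := Sylow.ofCard (zpowers zY) (by rw [Nat.card_zpowers, hzY7, hfac, pow_one])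
    have hP : normalizer ((P : Subgroup Y) : Set Y) ≤ centralizer ((P : Subgroup Y) : Set Y) := by
      intro y hy
      have hyz : (y : X) * z = z * (y : X) := hnc y y.2 (by
        rw [mem_normalizer_iff]
        intro x
        constructor
        · rintro ⟨i, rfl⟩
          obtain ⟨j, hj⟩ := (mem_normalizer_iff.1 hy (zY ^ i)).1 ⟨i, rfl⟩
          exact ⟨j, by simpa [zY] using congrArg Subtype.val hj⟩
        · rintro ⟨i, hi⟩
          have hi' : x = (y : X)⁻¹ * z ^ i * y := by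
            rw [show z ^ i = (y : X) * x * (y : X)⁻¹ from hi]; group
          obtain ⟨j, hj⟩ := (mem_normalizer_iff''.1 hy (zY ^ i)).1 ⟨i, rfl⟩
          exact ⟨j, by rw [hi']; simpa [zY] using congrArg Subtype.val hj⟩)
      rintro x ⟨i, rfl⟩
      refine Subtype.ext ?_
      show z ^ i * (y : X) = (y : X) * z ^ i
      exact ((show Commute z (y : X) from hyz.symm).zpow_left i).eq
    have hK := MonoidHom.ker_transferSylow_isComplement' P hP
    set K := (MonoidHom.transferSylow P hP).ker with hKdef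
    have hK7 : ¬ 7 ∣ Nat.card K := MonoidHom.not_dvd_card_ker_transferSylow P hP
    have hcK : Nat.card K * 7 = Nat.card Y := by
      rw [← hK.card_mul]
      congr 1
      show 7 = Nat.card (zpowers zY)
      rw [Nat.card_zpowers, hzY7]
    have hK9 : 9 ∣ Nat.card K := by
      rw [← hcK] at hY9
      exact (Nat.Coprime.dvd_mul_right (by norm_num)).1 hY9
    letI : MulAction (zpowers zY) (Sylow 3 K) :=
      MulAction.compHom _ ((MulAut.conjNormal (H := K)).comp (zpowers zY).subtype)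
    obtain ⟨Q, hQ⟩ := (IsPGroup.of_card (n := 1) (p := 7) (show Nat.card (zpowers zY) = 7 ^ 1 by
        rw [Nat.card_zpowers, hzY7, pow_one])).nonempty_fixed_point_of_prime_not_dvd_card (Sylow 3 K)
      (fun h => hK7 (h.trans (((default : Sylow 3 K).card_dvd_index).trans (Subgroup.index_dvd_card _))))
    set Qx : Subgroup X := ((Q : Subgroup K).map K.subtype).map Y.subtype
    have hQc : Nat.card Qx = Nat.card (Q : Subgroup K) := by
      rw [Subgroup.card_map_of_injective Y.subtype_injective, Subgroup.card_map_of_injective K.subtype_injective]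
    have hQY : Qx ≤ Y := by rintro _ ⟨x, -, rfl⟩; exact x.2
    have hzQ : ∀ q ∈ Qx, z * q * z⁻¹ ∈ Qx := by
      rintro _ ⟨_, ⟨q, hq, rfl⟩, rfl⟩
      have e := hQ ⟨zY, mem_zpowers zY⟩
      have hq' : MulAut.conjNormal zY q ∈ (Q : Subgroup K) := by
        have e' : MulAut.conjNormal (H := K) zY • Q = Q := e
        have h := Subgroup.smul_mem_pointwise_smul q (MulAut.conjNormal (H := K) zY) (Q : Subgroup K) hq
        rw [← Sylow.pointwise_smul_def, e'] at h
        exact h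
      exact ⟨_, ⟨_, hq', rfl⟩, rfl⟩
    let zQ : Subgroup X := Qx ⊓ CX
    have hzn : z ∈ normalizer (Qx : Set X) := Cfsg.Lib.ZStarApps.mem_normalizer_of_maps hzQ
    letI : MulAction (zpowers z) Qx :=
      MulAction.compHom _ ((normalizerMonoidHom Qx).comp (Subgroup.inclusion (zpowers_le.2 hzn)))
    have hmod := (IsPGroup.of_card (n := 1) (p := 7) (show Nat.card (zpowers z) = 7 ^ 1 by
        rw [Nat.card_zpowers, hz, pow_one])).card_modEq_card_fixedPoints Qx
    rw [show Nat.card (MulAction.fixedPoints (zpowers z) Qx) = Nat.card zQ from Nat.card_congr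
      { toFun := fun q => ⟨(q.1 : X), q.1.2, hCXmem.2 (by
          have e : z * (q.1 : X) * z⁻¹ = q.1 := congrArg Subtype.val (q.2 ⟨z, mem_zpowers z⟩)
          exact (mul_inv_eq_iff_eq_mul.1 e).symm)⟩
        invFun := fun q => ⟨⟨(q : X), q.2.1⟩, fun g => by
          obtain ⟨i, hi⟩ := g.2
          refine Subtype.ext ?_
          show (g : X) * (q : X) * (g : X)⁻¹ = q
          rw [← hi, ((show Commute z (q : X) from (hCXmem.1 q.2.2).symm).zpow_left i).eq, mul_inv_cancel_right]⟩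
        left_inv := fun q => rfl
        right_inv := fun q => rfl }] at hmod
    obtain ⟨i, hi⟩ := IsPGroup.iff_card.1 Q.isPGroup'
    obtain ⟨j, hj⟩ := IsPGroup.iff_card.1 ((Q.isPGroup'.map K.subtype).map Y.subtype |>.to_le (inf_le_left : zQ ≤ Qx))
    have hi2 : 2 ≤ i := by
      have h1 : 3 ^ 2 ∣ Nat.card (Q : Subgroup K) := Q.pow_dvd_card_of_pow_dvd_card (by simpa using hK9)
      rw [hi] at h1
      exact (Nat.pow_dvd_pow_iff_le_right (by norm_num)).1 h1
    have hi4 : i ≤ 4 := by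
      by_contra h
      have h1 : 3 ^ 5 ∣ 20158709760 := (pow_dvd_pow 3 (show 5 ≤ i by omega)).trans
        ((hi ▸ hQc ▸ Subgroup.card_subgroup_dvd_card Qx).trans (card_dvd_gl_six ρ hρ hU))
      norm_num at h1
    have hji : j ≤ i := by
      have h1 := card_dvd_of_le (inf_le_left : zQ ≤ Qx)
      rw [hj, hQc, hi] at h1
      exact (Nat.pow_dvd_pow_iff_le_right (by norm_num)).1 h1
    rw [hQc, hi, hj] at hmod
    have hij : i = j := by
      interval_cases i <;> interval_cases j <;> first | rfl | (norm_num [Nat.ModEq] at hmod)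
    have hQL : zQ ≤ L := le_inf (inf_le_left.trans hQY) inf_le_right
    refine dvd_trans ?_ (card_dvd_of_le hQL)
    rw [hj, ← hij, show (9 : ℕ) = 3 ^ 2 from rfl]
    exact pow_dvd_pow 3 hi2
  -- an element twisting the field
  push Not at hnc
  obtain ⟨m, hmY, hmN, hmz⟩ := hnc
  have hCXn : ∀ t ∈ T, ∀ l ∈ L, t * l * t⁻¹ ∈ L := fun t ht l hl =>
    ⟨‹Y.Normal›.conj_mem l hl.1 t, CX.mul_mem (CX.mul_mem (hTCX ht) hl.2) (CX.inv_mem (hTCX ht))⟩
  have hpw : ∀ {y : X} {c : ℕ}, y * z * y⁻¹ = z ^ c → ∀ n : ℕ, y ^ n * z * (y ^ n)⁻¹ = z ^ (c ^ n) := by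
    intro y c hy n
    induction n with
    | zero => simp
    | succ n ih =>
      calc y ^ (n + 1) * z * (y ^ (n + 1))⁻¹ = y * (y ^ n * z * (y ^ n)⁻¹) * y⁻¹ := by rw [pow_succ']; group
        _ = _ := by rw [ih, ← conj_pow, hy, ← pow_mul, pow_succ, mul_comm]
  have hred : ∀ k : ℕ, z ^ k = z ^ (k % 7) := fun k => by
    rw [← pow_mod_orderOf z k, hz]
  obtain ⟨m, hmY, hm2⟩ : ∃ m ∈ Y, m * z * m⁻¹ = z ^ 2 := by
    obtain ⟨j₀, hj₀⟩ := Submonoid.mem_powers_iff _ _ |>.1 (mem_powers_iff_mem_zpowers.2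
      ((mem_normalizer_iff.1 hmN z).1 (mem_zpowers z)))
    set j := j₀ % 7 with hj
    have hmj : m * z * m⁻¹ = z ^ j := by rw [← hj₀, hred]
    have hj7 : j < 7 := Nat.mod_lt _ (by norm_num)
    have hfj : ∀ x, ρ (z ^ (3 * j)) x = ρ (z ^ j) x + x := fun x => by
      rw [show 3 * j = j + j + j by ring, pow_add, pow_add, apply_mul, apply_mul, ← hmj,
        apply_mul, apply_mul, apply_mul, apply_mul, apply_mul, apply_mul, apply_inv, apply_inv, hf, map_add,
        apply_inv']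
    have hP : ∀ k x, ρ (z ^ (k + 3)) x = ρ (z ^ (k + 1)) x + ρ (z ^ k) x := fun k x => by
      have e : ρ (z ^ (k + 3)) x = ρ (z ^ k) (ρ z (ρ z (ρ z x))) := by
        rw [← apply_mul, ← apply_mul, ← apply_mul, pow_succ, pow_succ, pow_succ]
      rw [e, hf, map_add, ← apply_mul, ← pow_succ]
    have hcancel : ∀ {a b : U}, a = a + b → b = 0 := fun h => by simpa using h.symm
    obtain ⟨u, hu⟩ : ∃ u : U, u ≠ 0 := by
      haveI : Nontrivial U := Finite.one_lt_card_iff_nontrivial.1 (by rw [hU]; norm_num)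
      exact exists_ne 0
    have hP3 := hP 0 u
    have hP4 := hP 1 u
    have hP5 := hP 2 u
    have hP6 := hP 3 u
    simp only [pow_zero, map_one, Module.End.one_apply, Nat.reduceAdd] at hP3 hP4 hP5 hP6
    have hne : ∀ i, ρ (z ^ i) u ≠ 0 := fun i h => hu (by rw [← apply_inv ρ (z ^ i) u, h, map_zero])
    have h := hfj u
    interval_cases j
    · rw [pow_zero] at hmj
      exact absurd (by simpa using hmj) hz1
    · rw [pow_one, mul_inv_eq_iff_eq_mul] at hmj
      exact absurd hmj hmz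
    · exact ⟨m, hmY, hmj⟩
    · exfalso
      rw [hred (3 * 3), show 3 * 3 % 7 = 2 from rfl, hP3, add_assoc, ZModModule.add_self, add_zero] at h
      rw [show z ^ 2 = z * z from sq z, apply_mul, pow_one] at h
      exact hne 1 (by rw [pow_one]; exact hfp _ h)
    · refine ⟨m ^ 2, pow_mem hmY 2, ?_⟩
      rw [hpw hmj 2, hred]
      rfl
    · exfalso
      rw [hred (3 * 5), show 3 * 5 % 7 = 1 from rfl, hP5, hP3] at h
      rw [show ρ (z ^ 1) u + u + ρ (z ^ 2) u + u = ρ (z ^ 1) u + ρ (z ^ 2) u + (u + u) by abel,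
        ZModModule.add_self, add_zero] at h
      exact hne 2 (hcancel h)
    · exfalso
      rw [hred (3 * 6), show 3 * 6 % 7 = 4 from rfl, hP6, hP4, hP3] at h
      rw [show ρ (z ^ 2) u + ρ (z ^ 1) u + (ρ (z ^ 1) u + u) + u
          = ρ (z ^ 2) u + (ρ (z ^ 1) u + ρ (z ^ 1) u) + (u + u) by abel,
        ZModModule.add_self, ZModModule.add_self, add_zero, add_zero, add_comm] at h
      exact hne 1 (hcancel (by rw [add_comm] at h; exact h.symm))
  obtain ⟨y, hyY, hy2, a, hya⟩ : ∃ y ∈ Y, y * z * y⁻¹ = z ^ 2 ∧ ∃ a, y ^ 3 ^ a = 1 := by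
    set a := (orderOf m).factorization 3
    set b := orderOf m / 3 ^ a
    have hab : 3 ^ a * b = orderOf m := Nat.ordProj_mul_ordCompl_eq_self _ 3
    have hb : ¬ 3 ∣ b := Nat.not_dvd_ordCompl Nat.prime_three (orderOf_pos m).ne'
    have hkey : ∀ c, m ^ (b * c) * z * (m ^ (b * c))⁻¹ = z ^ (2 ^ (b * c) % 7) ∧ (m ^ (b * c)) ^ 3 ^ a = 1 := fun c => by
      refine ⟨by rw [hpw hm2, hred], ?_⟩
      rw [← pow_mul, show b * c * 3 ^ a = 3 ^ a * b * c by ring, hab, pow_mul, pow_orderOf_eq_one, one_pow]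
    have h2 : ∀ n, 2 ^ n % 7 = 2 ^ (n % 3) % 7 := fun n => by
      conv_lhs => rw [← Nat.div_add_mod n 3]
      rw [pow_add, pow_mul, Nat.mul_mod, Nat.pow_mod, show 2 ^ 3 % 7 = 1 from rfl, one_pow]
      simp
    rcases (show b % 3 = 1 ∨ b % 3 = 2 by omega) with h | h
    · refine ⟨_, pow_mem hmY (b * 1), ?_, a, (hkey 1).2⟩
      rw [(hkey 1).1, h2, show b * 1 % 3 = 1 by omega]
      rfl
    · refine ⟨_, pow_mem hmY (b * 2), ?_, a, (hkey 2).2⟩
      rw [(hkey 2).1, h2, show b * 2 % 3 = 1 by omega]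
      rfl
  -- the small centralizer
  have hL168 : Nat.card L ∣ 168 := dvd_168 ((card_dvd_of_le inf_le_right).trans hcardCX) h9
    fun h => hY49 (h.trans (card_dvd_of_le inf_le_left))
  have hzL : z ∈ L := ⟨hzY, hCXmem.2 rfl⟩
  let zL : L := ⟨z, hzL⟩
  have hzL7 : orderOf zL = 7 := (Subgroup.orderOf_mk z hzL).trans hz
  have hL7 : ¬ 49 ∣ Nat.card L := fun h => hY49 (h.trans (card_dvd_of_le inf_le_left))
  have hLfac : (Nat.card L).factorization 7 = 1 := by
    have h1 : 1 ≤ (Nat.card L).factorization 7 :=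
      Nat.Prime.factorization_pos_of_dvd (by norm_num) Nat.card_pos.ne' (hzL7 ▸ orderOf_dvd_natCard zL)
    refine le_antisymm (Nat.le_of_not_lt fun h2 => hL7 ?_) h1
    exact (show (49 : ℕ) = 7 ^ 2 from rfl) ▸ (pow_dvd_pow 7 h2).trans (Nat.ordProj_dvd _ 7)
  let P : Sylow 7 L := Sylow.ofCard (zpowers zL) (by rw [Nat.card_zpowers, hzL7, hLfac, pow_one])
  have hP : normalizer ((P : Subgroup L) : Set L) ≤ centralizer ((P : Subgroup L) : Set L) := by
    rintro g - x ⟨i, rfl⟩
    refine Subtype.ext ?_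
    show z ^ i * (g : X) = (g : X) * z ^ i
    exact ((show Commute z (g : X) from (hCXmem.1 g.2.2).symm).zpow_left i).eq
  have hK := MonoidHom.ker_transferSylow_isComplement' P hP
  set K := (MonoidHom.transferSylow P hP).ker
  have hcK : Nat.card K * 7 = Nat.card L := by
    rw [← hK.card_mul]
    congr 1
    show 7 = Nat.card (zpowers zL)
    rw [Nat.card_zpowers, hzL7]
  have hK24 : Nat.card K ∣ 24 := by
    rw [← hcK] at hL168
    exact (Nat.mul_dvd_mul_iff_right (show 0 < 7 by norm_num)).1 (by simpa using hL168)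
  set L0 : Subgroup X := K.map L.subtype
  have hL0 : ∀ g, g ∈ L0 ↔ g ∈ L ∧ g ^ 24 = 1 := by
    intro g
    constructor
    · rintro ⟨k, hk, rfl⟩
      refine ⟨k.2, ?_⟩
      have h : (⟨k, hk⟩ : K) ^ 24 = 1 := by
        obtain ⟨c, hc⟩ := hK24
        rw [hc, pow_mul, pow_card_eq_one', one_pow]
      exact congrArg (fun x : K => ((x : L) : X)) h
    · rintro ⟨hgL, hg⟩
      refine ⟨⟨g, hgL⟩, ?_, rfl⟩
      have h1 : orderOf ((⟨g, hgL⟩ : L) : L ⧸ K) ∣ 7 := by
        refine (_root_.orderOf_dvd_natCard _).trans (dvd_of_eq ?_)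
        have h := Subgroup.card_eq_card_quotient_mul_card_subgroup K
        rw [← hcK, mul_comm] at h
        exact (Nat.eq_of_mul_eq_mul_right Nat.card_pos h).symm
      have h2 : orderOf ((⟨g, hgL⟩ : L) : L ⧸ K) ∣ 24 := orderOf_dvd_of_pow_eq_one (by
        rw [← QuotientGroup.mk_pow, show (⟨g, hgL⟩ : L) ^ 24 = 1 from Subtype.ext hg, QuotientGroup.mk_one])
      exact (QuotientGroup.eq_one_iff _).1 (orderOf_eq_one_iff.1
        (Nat.eq_one_of_dvd_coprimes (show Nat.Coprime 7 24 by norm_num) h1 h2))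
  have hTL0 : T ≤ normalizer (L0 : Set X) := fun t ht => Cfsg.Lib.ZStarApps.mem_normalizer_of_maps fun g hg => by
    rw [hL0] at hg ⊢
    exact ⟨hCXn t ht g hg.1, by rw [conj_pow, hg.2, mul_one, mul_inv_cancel]⟩
  have hcL0 : Nat.card L0 = Nat.card K := Subgroup.card_map_of_injective L.subtype_injective
  have hzT : ∀ {W : Submodule (ZMod 2) U}, Nat.card W = 8 → T ≤ keeper ρ W → z ∈ keeper ρ W → T = ⊥ := by
    intro W hW hTW hzW
    refine trivial_of_layers ρ hρ hU T W hW z z hz7 hz7 hT hT hTW hzW hzW ?_ ?_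
    · by_contra hc
      push Not at hc
      have h0 : W = ⊥ := (Submodule.eq_bot_iff W).2 fun w hw => hfp w (hc w hw)
      rw [h0] at hW
      simp at hW
    · by_contra hc
      push Not at hc
      have hi : Function.Injective ⇑(ρ z - 1 : Module.End (ZMod 2) U) := LinearMap.ker_eq_bot.1 ((Submodule.eq_bot_iff _).2 fun x hx =>
        hfp x ((mem_fix ρ).1 hx))
      have hle : (⊤ : Submodule (ZMod 2) U) ≤ W := fun x _ => by
        obtain ⟨w, rfl⟩ := Finite.injective_iff_surjective.1 hi x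
        exact hc w
      rw [top_le_iff.1 hle, Nat.card_congr (Submodule.topEquiv (R := ZMod 2) (M := U)).toEquiv, hU] at hW
      omega
  suffices hbot : T = ⊥ by rw [hbot]; exact bot_le
  by_cases h3 : 3 ∣ Nat.card K
  · -- an element of order three
    rw [← hcL0] at h3
    have hfac3 : ∀ Q : Sylow 3 L0, Nat.card (Q : Subgroup L0) = 3 := fun Q => by
      obtain ⟨i, hi⟩ := IsPGroup.iff_card.1 Q.isPGroup'
      have h1 : 3 ∣ 3 ^ i := hi ▸ Q.dvd_card_of_dvd_card h3
      have h2 : 3 ^ i ∣ 24 := hi ▸ (Subgroup.card_subgroup_dvd_card _).trans (hcL0 ▸ hK24)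
      have h4 : i ≤ 3 := (Nat.pow_le_pow_iff_right (show 1 < 3 by norm_num)).1
        ((Nat.le_of_dvd (by norm_num) h2).trans (by norm_num))
      rw [hi]
      interval_cases i <;> simp_all
    have hn3 : Nat.card (Sylow 3 L0) ≤ 4 := by
      obtain ⟨Q⟩ : Nonempty (Sylow 3 L0) := inferInstance
      have h1 := card_sylow_modEq_one 3 L0
      have h2 : Nat.card (Sylow 3 L0) ∣ 8 := by
        refine (Q.card_dvd_index).trans ((Nat.mul_dvd_mul_iff_left (show 0 < 3 by norm_num)).1 ?_)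
        have := (Q : Subgroup L0).card_mul_index
        rw [hfac3 Q, hcL0] at this
        rw [this]
        exact hK24
      have h3' := Nat.le_of_dvd (by norm_num) h2
      interval_cases (Nat.card (Sylow 3 L0)) <;> simp_all [Nat.ModEq]
    letI : MulAction T (Sylow 3 L0) :=
      MulAction.compHom _ ((normalizerMonoidHom L0).comp (Subgroup.inclusion hTL0))
    obtain ⟨Q⟩ : Nonempty (Sylow 3 L0) := inferInstance
    have hfixQ : ∀ t : T, t • Q = Q := fun t =>
      Equiv.Perm.congr_fun (perfect_perm_trivial hn3 (MulAction.toPermHom T (Sylow 3 L0)) t) Q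
    set Qx : Subgroup X := (Q : Subgroup L0).map L0.subtype
    have hQx3 : Nat.card Qx = 3 := by rw [Subgroup.card_map_of_injective L0.subtype_injective, hfac3]
    haveI : IsCyclic Qx := isCyclic_of_prime_card hQx3
    have hTQ : T ≤ normalizer (Qx : Set X) := fun t ht => Cfsg.Lib.ZStarApps.mem_normalizer_of_maps fun g hg => by
      obtain ⟨q, hq, rfl⟩ := hg
      have e : (normalizerMonoidHom L0) (Subgroup.inclusion hTL0 ⟨t, ht⟩) • Q = Q := hfixQ ⟨t, ht⟩
      refine ⟨(normalizerMonoidHom L0) (Subgroup.inclusion hTL0 ⟨t, ht⟩) q, ?_, rfl⟩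
      have h := Subgroup.smul_mem_pointwise_smul q ((normalizerMonoidHom L0) (Subgroup.inclusion hTL0 ⟨t, ht⟩))
        (Q : Subgroup L0) hq
      rw [← Sylow.pointwise_smul_def, e] at h
      exact h
    have hTg := commute_of_normalizes Qx T hTQ
    haveI : Nontrivial Qx := Finite.one_lt_card_iff_nontrivial.1 (by rw [hQx3]; norm_num)
    obtain ⟨⟨g, hg⟩, hg1⟩ := exists_ne (1 : Qx)
    have hg1' : g ≠ 1 := fun h => hg1 (Subtype.ext h)
    have hg3 : g ^ 3 = 1 := by
      have h := congrArg Subtype.val (pow_card_eq_one' (x := (⟨g, hg⟩ : Qx)))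
      rwa [hQx3] at h
    have hgL : g ∈ L := by
      obtain ⟨q, -, rfl⟩ := hg
      exact ((hL0 _).1 q.2).1
    have hgz : g * z = z * g := hCXmem.1 hgL.2
    have hkW : z ∈ keeper ρ (fix ρ g) := mem_keeper_of_maps ρ fun w hw => by
      rw [mem_fix] at hw ⊢
      rw [← apply_mul, hgz, apply_mul, hw]
    rcases hinv1 _ hkW with h | h | h
    · refine trivial_of_commute ρ hρ (g * z) (fun W hW => ?_) T fun t ht => by
        rw [← mul_assoc, hTg t ht g hg, mul_assoc, hT t ht, mul_assoc]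
      have hgk : g * z ∈ keeper ρ W := mem_keeper_of_maps ρ hW
      have hzk : z ∈ keeper ρ W := by
        have e : (g * z) ^ 15 = z := by
          rw [(show Commute g z from hgz).mul_pow, show g ^ 15 = (g ^ 3) ^ 5 by rw [← pow_mul], hg3, one_pow,
            one_mul, hred]
          simp
        rw [← e]; exact pow_mem hgk 15
      have hgk' : g ∈ keeper ρ W := by simpa using (keeper ρ W).mul_mem hgk ((keeper ρ W).inv_mem hzk)
      rcases hinv1 W hzk with h' | h' | h'
      · exact Or.inl (eq_bot_of_one h')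
      · have h'' := fix_card_modEq ρ (r := 3) hg3 W hgk'
        rw [eq_bot_of_one h, inf_bot_eq, h'] at h''
        simp [Nat.ModEq] at h''
      · exact Or.inr (eq_top_of_all (h'.trans hU.symm))
    · refine hzT h (fun t ht => mem_keeper_of_maps ρ fun w hw => ?_) hkW
      rw [mem_fix] at hw ⊢
      rw [← apply_mul, ← hTg t ht g hg, apply_mul, hw]
    · exact absurd (eq_top_of_all (h.trans hU.symm)) (fix_ne_top ρ hρ hg1')
  by_cases hK1 : Nat.card K = 1
  swap
  · -- a normal 2-group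
    have hK2 : IsPGroup 2 L0 := by
      obtain ⟨d1, d2, h1, h2, e⟩ := Nat.dvd_mul.1 (show Nat.card K ∣ 2 ^ 3 * 3 by simpa using hK24)
      obtain ⟨i, -, rfl⟩ := (Nat.dvd_prime_pow Nat.prime_two).1 h1
      rcases (Nat.dvd_prime Nat.prime_three).1 h2 with rfl | rfl
      · exact IsPGroup.of_card (n := i) (by rw [hcL0, ← e, mul_one])
      · exact absurd (e ▸ dvd_mul_left _ _) h3
    let W : Submodule (ZMod 2) U :=
      { carrier := {x | ∀ g ∈ L0, ρ g x = x}
        add_mem' := fun {a b} ha hb g hg => by rw [map_add, ha g hg, hb g hg]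
        zero_mem' := fun g _ => map_zero _
        smul_mem' := fun c x hx g hg => by rw [map_smul, hx g hg] }
    have hWmap : ∀ s, s ∈ normalizer (L0 : Set X) → s ∈ keeper ρ W := fun s hs =>
      mem_keeper_of_maps ρ fun w hw g hg => by
        have h := (mem_normalizer_iff''.1 hs g).1 hg
        rw [← apply_mul, show g * s = s * (s⁻¹ * g * s) by group, apply_mul, hw _ h]
    have hzW : z ∈ keeper ρ W := hWmap z (Cfsg.Lib.ZStarApps.mem_normalizer_of_maps fun g hg => by
      have hgz := hCXmem.1 ((hL0 g).1 hg).1.2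
      rwa [← hgz, mul_inv_cancel_right])
    rcases hinv1 W hzW with h | h | h
    · exfalso
      have h1 := card_modEq ρ L0 hK2 ⊤ (fun g _ x => by simp)
      have e : Nat.card {w : (⊤ : Submodule (ZMod 2) U) // L0 ≤ fixer ρ (w : U)} = Nat.card W := Nat.card_congr
        { toFun := fun w => ⟨(w.1 : U), fun g hg => w.2 hg⟩
          invFun := fun x => ⟨⟨(x : U), trivial⟩, fun g hg => x.2 g hg⟩
          left_inv := fun w => rfl
          right_inv := fun x => rfl }
      rw [e, h, Nat.card_congr (Submodule.topEquiv (R := ZMod 2) (M := U)).toEquiv, hU] at h1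
      simp [Nat.ModEq] at h1
    · exact hzT h (fun t ht => hWmap t (hTL0 ht)) hzW
    · exfalso
      have hW' := eq_top_of_all (h.trans hU.symm)
      refine hK1 (hcL0 ▸ Subgroup.card_eq_one.2 ((Subgroup.eq_bot_iff_forall _).2 fun g hg => hρ (LinearMap.ext fun x => ?_)))
      rw [map_one, Module.End.one_apply]
      exact (hW'.ge (Submodule.mem_top (x := x))) g hg
  -- only the field is left
  have hLz : ∀ l ∈ L, l ∈ zpowers z := by
    have hle : zpowers z ≤ L := zpowers_le.2 hzL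
    have hc : Nat.card L = 7 := by rw [← hcK, hK1, one_mul]
    intro l hl
    rwa [Subgroup.eq_of_le_of_card_ge hle (by rw [hc, Nat.card_zpowers, hz])]
  have hy3L : y ^ 3 ∈ L := ⟨pow_mem hyY 3, hCXmem.2 (by
    have h := hpw hy2 3
    rw [hred, show 2 ^ 3 % 7 = 1 from rfl, pow_one] at h
    exact mul_inv_eq_iff_eq_mul.1 h)⟩
  have hy3 : y ^ 3 = 1 := by
    obtain ⟨i, hi⟩ := mem_zpowers_iff.1 (hLz _ hy3L)
    have h1 : (y ^ 3) ^ 7 = 1 := by rw [← hi, ← zpow_natCast, ← zpow_mul, mul_comm, zpow_mul, zpow_natCast, hz7, one_zpow]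
    have h2 : (y ^ 3) ^ 3 ^ a = 1 := by rw [← pow_mul, mul_comm, pow_mul, hya, one_pow]
    exact orderOf_eq_one_iff.1 (Nat.eq_one_of_dvd_coprimes
      (Nat.Coprime.pow_right a (show Nat.Coprime 7 3 by norm_num))
      (orderOf_dvd_of_pow_eq_one h1) (orderOf_dvd_of_pow_eq_one h2))
  have hLcomm : ∀ a b : L, a * b = b * a := fun a b => Subtype.ext <| by
    obtain ⟨i, hi⟩ := mem_zpowers_iff.1 (hLz a a.2)
    obtain ⟨j, hj⟩ := mem_zpowers_iff.1 (hLz b b.2)
    show (a : X) * b = b * a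
    rw [← hi, ← hj, ← zpow_add, ← zpow_add, add_comm]
  have hTd : ∀ t ∈ T, t * y * t⁻¹ * y⁻¹ ∈ L := fun t ht => ⟨Y.mul_mem (‹Y.Normal›.conj_mem y hyY t) (Y.inv_mem hyY), hCXmem.2 (by
    have h1 : t * z * t⁻¹ = z := by rw [hT t ht, mul_inv_cancel_right]
    have h2 : t⁻¹ * z * t = z := by rw [mul_assoc, ← hT t ht, inv_mul_cancel_left]
    have h3 : t * y * t⁻¹ * z * (t * y * t⁻¹)⁻¹ = z ^ 2 := by
      calc _ = t * (y * (t⁻¹ * z * t) * y⁻¹) * t⁻¹ := by group
        _ = (t * z * t⁻¹) ^ 2 := by rw [h2, hy2, conj_pow]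
        _ = z ^ 2 := by rw [h1]
    have h4 : y⁻¹ * z ^ 2 * y = z := by rw [← hy2]; group
    calc t * y * t⁻¹ * y⁻¹ * z = (t * y * t⁻¹ * y⁻¹ * z * (t * y * t⁻¹ * y⁻¹)⁻¹) * (t * y * t⁻¹ * y⁻¹) := by group
      _ = z * (t * y * t⁻¹ * y⁻¹) := by
        congr 1
        have h5 : y⁻¹ * z * y = z ^ 4 := by
          calc y⁻¹ * z * y = y⁻¹ * (z ^ 4) ^ 2 * y := by rw [← pow_mul, hred (4 * 2), show 4 * 2 % 7 = 1 from rfl, pow_one]
            _ = y⁻¹ * (y * z ^ 4 * y⁻¹) * y := by rw [show (z ^ 4) ^ 2 = (z ^ 2) ^ 4 by rw [← pow_mul, ← pow_mul], ← hy2, conj_pow]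
            _ = z ^ 4 := by group
        calc t * y * t⁻¹ * y⁻¹ * z * (t * y * t⁻¹ * y⁻¹)⁻¹
            = (t * y * t⁻¹) * (y⁻¹ * z * y) * (t * y * t⁻¹)⁻¹ := by group
          _ = (t * y * t⁻¹ * z * (t * y * t⁻¹)⁻¹) ^ 4 := by rw [h5, conj_pow]
          _ = z := by rw [h3, ← pow_mul, hred]; simp)⟩
  have hTy : ∀ t ∈ T, t * y = y * t := by
    let f : T →* L := MonoidHom.mk' (fun t => ⟨(t : X) * y * (t : X)⁻¹ * y⁻¹, hTd t t.2⟩) fun s t => Subtype.ext <| by
      have hd := hTd t t.2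
      have hsd : (s : X) * ((t : X) * y * (t : X)⁻¹ * y⁻¹) * (s : X)⁻¹ = (t : X) * y * (t : X)⁻¹ * y⁻¹ := by
        obtain ⟨i, hi⟩ := mem_zpowers_iff.1 (hLz _ hd)
        rw [← hi, ((show Commute (s : X) z from hT s s.2).zpow_right i).eq, mul_inv_cancel_right]
      have hc := congrArg Subtype.val (hLcomm ⟨_, hTd s s.2⟩ ⟨_, hd⟩)
      show (s * t : X) * y * ((s : X) * t)⁻¹ * y⁻¹ = _
      calc _ = ((s : X) * ((t : X) * y * (t : X)⁻¹ * y⁻¹) * (s : X)⁻¹) * ((s : X) * y * (s : X)⁻¹ * y⁻¹) := by group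
        _ = _ := by rw [hsd]; exact hc.symm
    intro t ht
    have h1 : t * y * t⁻¹ * y⁻¹ = 1 := congrArg Subtype.val (perfect_hom_trivial_comm hLcomm f ⟨t, ht⟩)
    exact mul_inv_eq_iff_eq_mul.1 (mul_inv_eq_one.1 h1)
  have hyzx : ∀ x, ρ y (ρ z x) = ρ z (ρ z (ρ y x)) := fun x => by
    rw [← apply_mul, ← apply_mul, ← apply_mul, show y * z = z * (z * y) by rw [← mul_assoc, ← sq, ← hy2]; group, mul_assoc]
  obtain ⟨v, hv0, hv⟩ : ∃ v, v ≠ 0 ∧ ρ y v = v := by
    by_contra hc
    push Not at hc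
    have hy : ∀ x, ρ y (ρ y x) = ρ y x + x := fun x => by
      by_contra hne
      have h := hc (ρ y (ρ y x) + (ρ y x + x)) (fun h => hne (by
        rwa [add_eq_zero_iff_eq_neg, ZModModule.neg_eq_self] at h))
      refine h ?_
      rw [map_add, map_add, ← apply_mul ρ y y (ρ y x), ← apply_mul ρ (y * y) y x,
        show y * y * y = 1 by rw [← hy3, pow_succ, pow_two], map_one, Module.End.one_apply]
      abel
    apply hmz
    have hyz : y = z := hρ (LinearMap.ext fun x => by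
      have h := hy (ρ z x)
      rw [hyzx, hyzx, hyzx, hy x] at h
      simp only [map_add, hf, ← sub_eq_zero (a := _ + _)] at h
      refine Finite.injective_iff_surjective.2 (fun w => ⟨ρ z⁻¹ w, apply_inv' ρ z w⟩) ?_
      rw [← sub_eq_zero, ZModModule.sub_eq_add]
      calc ρ z (ρ y x) + ρ z (ρ z x)
          = ρ z (ρ z (ρ y x)) + ρ z (ρ y x) + (ρ z (ρ z x) + ρ z x) - (ρ z (ρ z (ρ y x)) + ρ z x) := by abel
        _ = 0 := h)
    have h2 := hy2
    rw [hyz, mul_inv_cancel_right] at h2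
    exact absurd (left_eq_mul.1 (by rwa [sq] at h2) : z = 1) hz1
  -- the fixed vectors of the twisting element
  have hkey : ∀ v, v ≠ 0 → ρ y v = v → ∀ x ∈ line v, ρ y x = x → x ∈ Submodule.span (ZMod 2) {v} := by
    intro v hv0 hv x hx hyx
    obtain ⟨a, b, c, rfl⟩ := Submodule.mem_span_triple.1 hx
    simp only [map_add, map_smul, hyzx, hv, hf] at hyx
    have hinj := ((Nat.bijective_iff_surjective_and_card
      (fun p : ZMod 2 × ZMod 2 × ZMod 2 => (⟨p.1 • v + p.2.1 • ρ z v + p.2.2 • ρ z (ρ z v),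
        Submodule.mem_span_triple.2 ⟨_, _, _, rfl⟩⟩ : line v))).2
      ⟨fun y => by
        obtain ⟨a, b, c, e⟩ := Submodule.mem_span_triple.1 y.2
        exact ⟨(a, b, c), Subtype.ext e⟩, by simp [Nat.card_prod, hline8 v hv0]⟩).1
    have e := @hinj (a, c, b + c) (a, b, c) (Subtype.ext (by simp only; rw [← hyx]; module))
    simp only [Prod.mk.injEq, true_and] at e
    obtain ⟨e1, e2⟩ := e
    have hc : c = 0 := fixed_coord b c e1 e2
    rw [← e1, hc, zero_smul, zero_smul, add_zero, add_zero]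
    exact Submodule.smul_mem _ a (Submodule.mem_span_singleton_self v)
  have hC4 : Nat.card (fix ρ y) ≤ 4 := by
    obtain ⟨w, hw⟩ : ∃ w, fix ρ y ≤ Submodule.span (ZMod 2) {v, w} := by
      by_cases hsub : fix ρ y ≤ line v
      · refine ⟨0, fun x hx => ?_⟩
        exact Submodule.span_mono (by simp) (hkey v hv0 hv x (hsub hx) ((mem_fix ρ).1 hx))
      · obtain ⟨w, hwC, hwl⟩ := SetLike.not_le_iff_exists.1 hsub
        refine ⟨w, fun x hx => ?_⟩
        obtain ⟨hbot, htop⟩ := hdirect v w hv0 hwl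
        obtain ⟨p, hp, q, hq, rfl⟩ := Submodule.mem_sup.1 (htop.ge (Submodule.mem_top (x := x)))
        have hw' := (mem_fix ρ).1 hwC
        have hkeep : ∀ u, ρ y u = u → ∀ x ∈ line u, ρ y x ∈ line u := fun u hu x hx => by
          obtain ⟨a, b, c, rfl⟩ := Submodule.mem_span_triple.1 hx
          simp only [map_add, map_smul, hyzx, hu, hf]
          exact Submodule.mem_span_triple.2 ⟨a, c, b + c, by module⟩
        have hd : ρ y p - p = q - ρ y q := by
          have e := (mem_fix ρ).1 hx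
          rw [map_add] at e
          rw [sub_eq_sub_iff_add_eq_add, e, add_comm]
        have h0 : ρ y p - p = 0 := (Submodule.eq_bot_iff _).1 hbot _ ⟨(line v).sub_mem (hkeep v hv p hp) hp,
          hd ▸ (line w).sub_mem hq (hkeep w hw' q hq)⟩
        have hq0 : ρ y q = q := (sub_eq_zero.1 (hd ▸ h0)).symm
        exact Submodule.add_mem _ (Submodule.span_mono (by simp) (hkey v hv0 hv p hp (sub_eq_zero.1 h0)))
          (Submodule.span_mono (by simp) (hkey w (fun h => hwl (h ▸ (line v).zero_mem)) hw' q hq hq0))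
    refine (Nat.card_le_card_of_injective _ (Submodule.inclusion_injective hw)).trans ?_
    refine (Nat.card_le_card_of_surjective (fun p : ZMod 2 × ZMod 2 => (⟨p.1 • v + p.2 • w,
      Submodule.mem_span_pair.2 ⟨_, _, rfl⟩⟩ : Submodule.span (ZMod 2) {v, w})) fun x => ?_).trans (by simp [Nat.card_prod])
    obtain ⟨a, b, e⟩ := Submodule.mem_span_pair.1 x.2
    exact ⟨(a, b), Subtype.ext e⟩
  have hTC : ∀ t ∈ T, ∀ x ∈ fix ρ y, ρ t x ∈ fix ρ y := fun t ht x hx => by
    rw [mem_fix] at hx ⊢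
    rw [← apply_mul, ← hTy t ht, apply_mul, hx]
  letI : MulAction T (fix ρ y) :=
    { smul := fun t x => ⟨ρ (t : X) (x : U), hTC t t.2 x x.2⟩
      one_smul := fun x => Subtype.ext (by show ρ ((1 : T) : X) (x : U) = x; simp)
      mul_smul := fun s t x => Subtype.ext (apply_mul ρ (s : X) t x) }
  have hTv : ∀ t ∈ T, ρ t v = v := fun t ht =>
    congrArg Subtype.val (Equiv.Perm.congr_fun (perfect_perm_trivial hC4 (MulAction.toPermHom T (fix ρ y)) ⟨t, ht⟩)
      (⟨v, (mem_fix ρ).2 hv⟩ : fix ρ y))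
  refine hzT (hline8 v hv0) (fun t ht => mem_keeper_of_maps ρ fun w hw => ?_) (hline_keep v)
  rw [hline_fix t (hTCX ht) v (hTv t ht) w hw]
  exact hw

/-- The case of sixty-four vectors. -/
theorem perfect_le_of_six (hρ : Function.Injective ρ) (hU : Nat.card U = 64) (Y : Subgroup X) [Y.Normal]
    (htr : ∀ u v : U, u ≠ 0 → v ≠ 0 → ∃ y ∈ Y, ρ y u = v) (T : Subgroup X) [Group.IsPerfect T] : T ≤ Y := by
  haveI : Fact (Nat.Prime 7) := ⟨by norm_num⟩
  haveI : Nontrivial U := Finite.one_lt_card_iff_nontrivial.1 (by rw [hU]; norm_num)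
  obtain ⟨v₀, hv₀⟩ := exists_ne (0 : U)
  have h63 : 63 ∣ Nat.card Y := by
    have h := (card_dvd_of_transitive ρ Y htr hv₀).2
    rwa [hU] at h
  obtain ⟨R⟩ : Nonempty (Sylow 7 Y) := inferInstance
  refine le_of_sylow_normalizer Y R (fun T' hT' hle => ?_) T
  haveI := hT'
  set Rx : Subgroup X := (R : Subgroup Y).map Y.subtype
  have hcR : Nat.card Rx = Nat.card (R : Subgroup Y) := Subgroup.card_map_of_injective Y.subtype_injective
  have hRY : Rx ≤ Y := by rintro _ ⟨x, -, rfl⟩; exact x.2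
  have hfpf : ∀ u : U, Rx ≤ fixer ρ u → u = 0 := by
    intro u hu
    by_contra hu0
    have h1 := (card_dvd_of_transitive ρ Y htr hu0).1
    have h2 := Subgroup.relIndex_dvd_of_le_left Y (le_inf hu hRY)
    rw [h1, hU] at h2
    have h3 : Rx.relIndex Y = (R : Subgroup Y).index := by
      rw [Subgroup.relIndex, Subgroup.subgroupOf]
      rw [Subgroup.comap_map_eq_self_of_injective Y.subtype_injective]
    rw [h3] at h2
    exact R.not_dvd_index ((show 7 ∣ 64 - 1 by norm_num).trans h2)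
  obtain ⟨k, hk⟩ := IsPGroup.iff_card.1 R.isPGroup'
  have hk1 : 1 ≤ k := by
    have h := R.dvd_card_of_dvd_card ((show 7 ∣ 63 by norm_num).trans h63)
    rw [hk] at h
    rcases k with _ | k <;> simp_all
  have hk2 : k ≤ 2 := by
    by_contra h
    have h1 : 7 ^ 3 ∣ 20158709760 := (pow_dvd_pow 7 (show 3 ≤ k by omega)).trans
      ((hk ▸ hcR ▸ Subgroup.card_subgroup_dvd_card Rx).trans (card_dvd_gl_six ρ hρ hU))
    norm_num at h1
  rcases (show k = 1 ∨ k = 2 by omega) with rfl | rfl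
  swap
  · rw [trivial_of_fortyNine ρ hρ hU Rx (by rw [hcR, hk]; norm_num) hfpf T' hle]
    exact bot_le
  rw [pow_one] at hk
  have hY49 : ¬ 49 ∣ Nat.card Y := fun h => by
    have h1 := R.pow_dvd_card_of_pow_dvd_card (show 7 ^ 2 ∣ Nat.card Y by simpa using h)
    rw [hk] at h1
    norm_num at h1
  haveI : IsCyclic Rx := isCyclic_of_prime_card (hcR.trans hk)
  haveI : Nontrivial Rx := Finite.one_lt_card_iff_nontrivial.1 (by rw [hcR, hk]; norm_num)
  obtain ⟨⟨z, hzR⟩, hz1⟩ := exists_ne (1 : Rx)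
  have hz : orderOf z = 7 := by
    have h1 : orderOf z ∣ 7 := by
      rw [← hk, ← hcR, ← Subgroup.orderOf_mk z hzR]; exact orderOf_dvd_natCard _
    rcases (Nat.dvd_prime (by norm_num)).1 h1 with h | h
    · exact absurd (Subtype.ext (orderOf_eq_one_iff.1 h)) hz1
    · exact h
  have hz7 : z ^ 7 = 1 := hz ▸ pow_orderOf_eq_one z
  have hfp : ∀ x, ρ z x = x → x = 0 := fun x hx => hfpf x <| by
    rw [← Subgroup.eq_of_le_of_card_ge (zpowers_le.2 hzR) (by rw [hcR, hk, Nat.card_zpowers, hz])]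
    exact zpowers_le.2 hx
  have hTz : ∀ t ∈ T', t * z = z * t := fun t ht => commute_of_normalizes Rx T' hle t ht z hzR
  set Z := ρ z with hZdef
  have hsum : ∀ x, Z (Z (Z (Z (Z (Z x))))) + Z (Z (Z (Z (Z x)))) + Z (Z (Z (Z x))) + Z (Z (Z x)) + Z (Z x) + Z x + x = 0 := by
    intro x
    refine hfp _ ?_
    have h7 : Z (Z (Z (Z (Z (Z (Z x)))))) = x := by
      simp only [hZdef, ← apply_mul]
      rw [show z * (z * (z * (z * (z * (z * z))))) = z ^ 7 by simp only [pow_succ, pow_zero, one_mul, mul_assoc], hz7, map_one]; rfl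
    simp only [map_add, h7]
    abel
  set fM : Module.End (ZMod 2) U := Z * Z * Z + Z + 1 with hfM
  set gM : Module.End (ZMod 2) U := Z * Z * Z + Z * Z + 1 with hgM
  have hfg : ∀ x, fM (gM x) = 0 := fun x => by
    simp only [hfM, hgM, LinearMap.add_apply, Module.End.mul_apply, Module.End.one_apply, map_add]
    refine Eq.trans ?_ (hsum x)
    have h := ZModModule.add_self (Z (Z (Z x)))
    calc _ = Z (Z (Z (Z (Z (Z x))))) + Z (Z (Z (Z (Z x)))) + Z (Z (Z (Z x))) + Z (Z (Z x)) + Z (Z x) + Z x + x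
          + (Z (Z (Z x)) + Z (Z (Z x))) := by abel
      _ = _ := by rw [h, add_zero]
  have hzY : z ∈ Y := hRY hzR
  have h9 : 9 ∣ Nat.card Y := (show 9 ∣ 63 by norm_num).trans h63
  by_cases hker : LinearMap.ker fM = ⊥
  · -- the reciprocal polynomial
    have hg0 : ∀ x, gM x = 0 := fun x => (Submodule.eq_bot_iff _).1 hker _ (LinearMap.mem_ker.2 (hfg x))
    refine le_of_cubic ρ hρ hU Y hY49 h9 (Y.inv_mem hzY) (by rw [orderOf_inv]; exact hz) (fun x hx => hfp x ?_)
      (fun x => ?_) T' (fun t ht => ((show Commute t z from hTz t ht).inv_right).eq)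
    · conv_lhs => rw [← hx]
      exact apply_inv' ρ z x
    · have h := hg0 (ρ z⁻¹ (ρ z⁻¹ (ρ z⁻¹ x)))
      simp only [hgM, hZdef, LinearMap.add_apply, Module.End.mul_apply, Module.End.one_apply, apply_inv'] at h
      rw [← sub_eq_zero, ZModModule.sub_eq_add]
      rw [← h]
      abel
  by_cases htop : LinearMap.ker fM = ⊤
  · refine le_of_cubic ρ hρ hU Y hY49 h9 hzY hz hfp (fun x => ?_) T' hTz
    have h : fM x = 0 := LinearMap.mem_ker.1 (htop.ge (Submodule.mem_top (x := x)))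
    simp only [hfM, LinearMap.add_apply, Module.End.mul_apply, Module.End.one_apply] at h
    rw [← sub_eq_zero, ZModModule.sub_eq_add, ← add_assoc]
    exact h
  have hkeep : ∀ g : X, g * z = z * g → g ∈ keeper ρ (LinearMap.ker fM) := fun g hg => mem_keeper_of_maps ρ fun w hw => by
    rw [LinearMap.mem_ker] at hw ⊢
    have hc : Commute (ρ g) fM := by
      have h1 : Commute (ρ g) Z := by show ρ g * ρ z = ρ z * ρ g; rw [← map_mul, hg, map_mul]
      exact (((h1.mul_right h1).mul_right h1).add_right h1).add_right (Commute.one_right _)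
    rw [← Module.End.mul_apply, ← hc.eq, Module.End.mul_apply, hw, map_zero]
  have hW8 : Nat.card (LinearMap.ker fM) = 8 := by
    have h := fix_card_modEq ρ (r := 7) hz7 _ (hkeep z rfl)
    rw [show fix ρ z = ⊥ from (Submodule.eq_bot_iff _).2 fun x hx => hfp x ((mem_fix ρ).1 hx), inf_bot_eq] at h
    rcases card_cases hU _ (h.trans (by simp [Nat.ModEq])) with h | h | h
    · exact absurd (eq_bot_of_one h) hker
    · exact h
    · exact absurd (eq_top_of_all (h.trans hU.symm)) htop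
  rw [trivial_of_layers ρ hρ hU T' _ hW8 z z hz7 hz7 hTz hTz (fun t ht => hkeep t (hTz t ht)) (hkeep z rfl)
    (hkeep z rfl) ?_ ?_]
  · exact bot_le
  · by_contra hc
    push Not at hc
    exact hker ((Submodule.eq_bot_iff _).2 fun w hw => hfp w (hc w hw))
  · by_contra hc
    push Not at hc
    refine htop (eq_top_iff.2 fun x _ => ?_)
    have hi : Function.Injective ⇑(ρ z - 1 : Module.End (ZMod 2) U) := LinearMap.ker_eq_bot.1 ((Submodule.eq_bot_iff _).2 fun x hx =>
      hfp x ((mem_fix ρ).1 hx))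
    obtain ⟨w, rfl⟩ := Finite.injective_iff_surjective.1 hi x
    exact hc w

end Cfsg.Lib.OutSol
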