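import Cfsg.Agent.OutSol.Aniso
import Cfsg.Agent.PGroups.Basic

/-!
Perfect groups acting on a 2-group whose involutions are central and fixed.
-/

set_option autoImplicit false
set_option linter.style.haveILetI false
set_option linter.unusedSectionVars false

namespace Cfsg.Lib.OutSol

open Subgroup

universe u v

theorem central_fixed_aux {T : Type u} [Group T] [Finite T] [Group.IsPerfect T] (n : ℕ) :
    ∀ (P : Type v) [Group P] [Finite P], Nat.card P ≤ n → IsPGroup 2 P → ∀ φ : T →* MulAut P,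
      (∀ x : P, x * x = 1 → ∀ y, Commute x y) → (∀ x : P, x * x = 1 → ∀ t, φ t x = x) →
      ∀ t x, φ t x = x := by
  haveI : Fact (Nat.Prime 2) := ⟨Nat.prime_two⟩
  induction n using Nat.strong_induction_on with
  | _ n ih =>
  intro P _ _ hn hP φ hcen hfix
  rcases subsingleton_or_nontrivial P with hs | hs
  · exact fun t x => Subsingleton.elim _ _
  haveI : Group.IsNilpotent P := hP.isNilpotent
  have hsolv : ∀ M : Subgroup P, Group.IsSolvable M := fun M => inferInstance
  -- invariant proper subgroups are fixed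
  have hprop : ∀ M : Subgroup P, M ≠ ⊤ → (∀ t, ∀ m ∈ M, φ t m ∈ M) → ∀ t, ∀ m ∈ M, φ t m = m := by
    intro M hM hinv t m hm
    let ψ : T →* MulAut M := MonoidHom.mk' (fun t =>
      { toFun := fun x => ⟨φ t x, hinv t x x.2⟩
        invFun := fun x => ⟨φ t⁻¹ x, hinv t⁻¹ x x.2⟩
        left_inv := fun x => Subtype.ext (by
          show φ t⁻¹ (φ t x) = (x : P)
          rw [← MulAut.mul_apply, ← map_mul, inv_mul_cancel, map_one, MulAut.one_apply])
        right_inv := fun x => Subtype.ext (by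
          show φ t (φ t⁻¹ x) = (x : P)
          rw [← MulAut.mul_apply, ← map_mul, mul_inv_cancel, map_one, MulAut.one_apply])
        map_mul' := fun x y => Subtype.ext (map_mul (φ t) (x : P) y) })
      (fun a b => MulEquiv.ext fun x => Subtype.ext (by
        show φ (a * b) x = φ a (φ b x)
        rw [map_mul, MulAut.mul_apply]))
    have hlt : Nat.card M < n := lt_of_lt_of_le
      (lt_of_le_of_ne (Subgroup.card_le_card_group M) fun h => hM (Subgroup.eq_top_of_card_eq M h)) hn
    exact congrArg Subtype.val (ih _ hlt M le_rfl (hP.to_subgroup M) ψ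
      (fun x hx y => Subtype.ext (hcen x (congrArg Subtype.val hx) y))
      (fun x hx t => Subtype.ext (hfix x (congrArg Subtype.val hx) t)) t ⟨m, hm⟩)
  -- a fixed normal subgroup that is not central
  have hcent : ∀ M : Subgroup P, M.Normal → (∀ t, ∀ m ∈ M, φ t m = m) → ¬ M ≤ center P →
      ∀ t x, φ t x = x := by
    intro M hMn hMfix hMc
    let C := centralizer (M : Set P)
    have hCinv : ∀ t, ∀ c ∈ C, φ t c ∈ C := fun t c hc m hm => by
      have h := congrArg (φ t) (hc m hm)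
      rwa [map_mul, map_mul, hMfix t m hm] at h
    have hCne : C ≠ ⊤ := fun h => hMc fun m hm => mem_center_iff.2 fun g =>
      (mem_centralizer_iff.1 (h ▸ mem_top g : g ∈ C) m hm).symm
    have hCfix := hprop C hCne hCinv
    haveI := hsolv C
    refine stab_trivial φ C hCfix fun t x => ?_
    intro m hm
    have h1 : φ t x * (x⁻¹ * m * x) * (φ t x)⁻¹ = m := by
      have h2 := congrArg (φ t) (show x * (x⁻¹ * m * x) * x⁻¹ = m by group)
      rw [map_mul, map_mul, map_inv, hMfix t m hm, hMfix t (x⁻¹ * m * x) (by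
        simpa using hMn.conj_mem m hm x⁻¹)] at h2
      exact h2
    calc m * (φ t x * x⁻¹) = φ t x * (x⁻¹ * m * x) * (φ t x)⁻¹ * (φ t x * x⁻¹) := by rw [h1]
      _ = φ t x * x⁻¹ * m := by group
  -- the Frattini subgroup
  have hΦne : frattini P ≠ ⊤ := fun h => by
    have h2 := frattini_nongenerating (G := P) (K := ⊥) (by rw [h]; simp)
    exact absurd h2 bot_ne_top
  have hsq : ∀ x : P, x ^ 2 ∈ frattini P := fun x => by
    have h := Cfsg.Lib.PGroups.pow_prime_quotient_frattini hP (x : P ⧸ frattini P)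
    rwa [← QuotientGroup.mk_pow, QuotientGroup.eq_one_iff] at h
  have hΦinv : ∀ t, ∀ m ∈ frattini P, φ t m ∈ frattini P := fun t m hm =>
    (SetLike.ext_iff.1 (Subgroup.characteristic_iff_comap_eq.1
      (frattini_characteristic (G := P)) (φ t)) m).2 hm
  have hΦfix := hprop _ hΦne hΦinv
  by_cases hΦc : frattini P ≤ center P
  swap
  · exact hcent _ inferInstance hΦfix hΦc
  have hsqfix : ∀ t x, φ t x ^ 2 = x ^ 2 := fun t x => by
    rw [← map_pow]; exact hΦfix t _ (hsq x)
  by_cases hZ : center P = ⊤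
  · -- abelian case
    have hc : ∀ a b : P, a * b = b * a := fun a b =>
      (mem_center_iff.1 (hZ ▸ mem_top a : a ∈ center P) b).symm
    let Ω : Subgroup P :=
      { carrier := {x | x * x = 1}
        one_mem' := one_mul 1
        mul_mem' := fun {a b} (ha : a * a = 1) (hb : b * b = 1) => by
          show a * b * (a * b) = 1
          rw [_root_.mul_assoc, ← _root_.mul_assoc b, hc b a, _root_.mul_assoc a b, hb, _root_.mul_one, ha]
        inv_mem' := fun {a} (ha : a * a = 1) => by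
          show a⁻¹ * a⁻¹ = 1
          rw [← _root_.mul_inv_rev, ha, inv_one] }
    haveI := hsolv Ω
    refine stab_trivial φ Ω (fun t m hm => hfix m hm t) fun t x => ?_
    show φ t x * x⁻¹ * (φ t x * x⁻¹) = 1
    rw [← sq, (show Commute (φ t x) x⁻¹ from hc _ _).mul_pow, hsqfix, inv_pow, mul_inv_cancel]
  -- the quotient by the centre
  set Z := center P with hZdef
  have hZinv : ∀ t, ∀ m ∈ Z, φ t m ∈ Z := fun t m hm => mem_center_iff.2 fun g => by
    obtain ⟨g, rfl⟩ := (φ t).surjective g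
    rw [← map_mul, ← map_mul, mem_center_iff.1 hm g]
  have hZfix := hprop Z hZ hZinv
  by_contra hne
  have hcomΦ : ∀ g m : P, g * m * g⁻¹ * m⁻¹ ∈ frattini P := fun g m => by
    have h := Cfsg.Lib.PGroups.pow_prime_quotient_frattini hP
    have hi : ∀ a : P ⧸ frattini P, a⁻¹ = a := fun a => inv_eq_of_mul_eq_one_left (by rw [← sq, h a])
    rw [← QuotientGroup.eq_one_iff, QuotientGroup.mk_mul, QuotientGroup.mk_mul, QuotientGroup.mk_mul,
      QuotientGroup.mk_inv, QuotientGroup.mk_inv, hi, hi, _root_.mul_assoc, ← sq, h]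
  have hmax : ∀ M : Subgroup P, Z ≤ M → (∀ t, ∀ m ∈ M, φ t m ∈ M) → M = Z ∨ M = ⊤ := by
    intro M hZM hinv
    by_contra hc
    push Not at hc
    have hMn : M.Normal := ⟨fun m hm g => by
      rw [show g * m * g⁻¹ = (g * m * g⁻¹ * m⁻¹) * m by group]
      exact M.mul_mem (hZM (hΦc (hcomΦ g m))) hm⟩
    exact hne fun t x => hcent M hMn (hprop M hc.2 hinv) (fun h => hc.1 (le_antisymm h hZM)) t x
  have hcomm : ∀ a b : P ⧸ Z, a * b = b * a := fun a b => by
    obtain ⟨x, rfl⟩ := QuotientGroup.mk_surjective a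
    obtain ⟨y, rfl⟩ := QuotientGroup.mk_surjective b
    rw [← mul_inv_eq_one, _root_.mul_inv_rev, ← _root_.mul_assoc, ← QuotientGroup.mk_mul, ← QuotientGroup.mk_inv,
      ← QuotientGroup.mk_inv, ← QuotientGroup.mk_mul, ← QuotientGroup.mk_mul, QuotientGroup.eq_one_iff]
    exact hΦc (hcomΦ x y)
  letI : CommGroup (P ⧸ Z) := { (inferInstance : Group (P ⧸ Z)) with mul_comm := hcomm }
  letI : CommGroup Z :=
    { (inferInstance : Group Z) with mul_comm := fun a b => Subtype.ext (mem_center_iff.1 b.2 a) }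
  let R : Subgroup Z := (powMonoidHom 2 : Z →* Z).range
  letI : Module (ZMod 2) (Additive (P ⧸ Z)) := AddCommGroup.zmodModule fun a => by
    obtain ⟨x, rfl⟩ := Additive.ofMul.surjective a
    obtain ⟨y, rfl⟩ := QuotientGroup.mk_surjective x
    show Additive.ofMul ((y : P ⧸ Z) ^ 2) = Additive.ofMul 1
    rw [← QuotientGroup.mk_pow, (QuotientGroup.eq_one_iff _).2 (hΦc (hsq y))]
  letI : Module (ZMod 2) (Additive (Z ⧸ R)) := AddCommGroup.zmodModule fun a => by
    obtain ⟨x, rfl⟩ := Additive.ofMul.surjective a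
    obtain ⟨y, rfl⟩ := QuotientGroup.mk_surjective x
    exact congrArg Additive.ofMul ((QuotientGroup.eq_one_iff (y ^ 2)).2 (MonoidHom.mem_range.2 ⟨y, rfl⟩))
  let cls : Z → Additive (Z ⧸ R) := fun z => Additive.ofMul (z : Z ⧸ R)
  have cls_mul : ∀ a b : Z, cls (a * b) = cls a + cls b := fun a b => rfl
  have cls_sq : ∀ a : Z, cls (a ^ 2) = 0 := fun a =>
    congrArg Additive.ofMul ((QuotientGroup.eq_one_iff _).2 (MonoidHom.mem_range.2 ⟨a, rfl⟩))
  let sqZ : P → Z := fun x => ⟨x ^ 2, hΦc (hsq x)⟩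
  have hcz : ∀ x y : P, x⁻¹ * y * x * y⁻¹ ∈ Z := fun x y => by
    simpa using hΦc (hcomΦ x⁻¹ y)
  let c : P → P → Z := fun x y => ⟨x⁻¹ * y * x * y⁻¹, hcz x y⟩
  have hsqZ : ∀ x y, sqZ (x * y) = sqZ x * c x y * sqZ y := fun x y => Subtype.ext (by
    show (x * y) ^ 2 = x ^ 2 * (x⁻¹ * y * x * y⁻¹) * y ^ 2
    simp only [pow_two]
    group)
  let q₀ : Additive (P ⧸ Z) → Additive (Z ⧸ R) := fun u => cls (sqZ (Additive.toMul u).out)
  have hq₀ : ∀ x : P, q₀ (Additive.ofMul (x : P ⧸ Z)) = cls (sqZ x) := fun x => by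
    obtain ⟨z, hz⟩ := QuotientGroup.mk_out_eq_mul Z x
    show cls (sqZ (x : P ⧸ Z).out) = _
    rw [hz, show sqZ (x * z) = sqZ x * z ^ 2 from Subtype.ext (by
      show (x * (z : P)) ^ 2 = x ^ 2 * (z : P) ^ 2
      exact (show Commute x (z : P) from mem_center_iff.1 z.2 x).mul_pow 2), cls_mul, cls_sq, add_zero]
  have hpol : ∀ x y : P, pol q₀ (Additive.ofMul (x : P ⧸ Z)) (Additive.ofMul (y : P ⧸ Z)) = cls (c x y) :=
    fun x y => by
      show q₀ (Additive.ofMul ((x * y : P) : P ⧸ Z)) + q₀ (Additive.ofMul (x : P ⧸ Z))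
        + q₀ (Additive.ofMul (y : P ⧸ Z)) = _
      rw [hq₀ (x * y), hq₀ x, hq₀ y, hsqZ, cls_mul, cls_mul]
      calc cls (sqZ x) + cls (c x y) + cls (sqZ y) + cls (sqZ x) + cls (sqZ y)
          = cls (c x y) + (cls (sqZ x) + cls (sqZ x)) + (cls (sqZ y) + cls (sqZ y)) := by abel
        _ = _ := by rw [add_self, add_self, add_zero, add_zero]
  let E1 : Submodule (ZMod 2) (Additive (Z ⧸ R)) := Submodule.span (ZMod 2) (Set.range q₀)
  let q : Additive (P ⧸ Z) → E1 := fun u => ⟨q₀ u, Submodule.subset_span ⟨u, rfl⟩⟩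
  let lin : T →* Module.End (ZMod 2) (Additive (P ⧸ Z)) :=
    { toFun := fun t => (MonoidHom.toAdditive (QuotientGroup.map Z Z (φ t).toMonoidHom
        fun m hm => hZinv t m hm)).toZModLinearMap 2
      map_one' := LinearMap.ext fun u => by
        obtain ⟨x, rfl⟩ := Additive.ofMul.surjective u
        obtain ⟨y, rfl⟩ := QuotientGroup.mk_surjective x
        show Additive.ofMul ((φ 1 y : P) : P ⧸ Z) = _
        rw [map_one, MulAut.one_apply]; rfl
      map_mul' := fun a b => LinearMap.ext fun u => by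
        obtain ⟨x, rfl⟩ := Additive.ofMul.surjective u
        obtain ⟨y, rfl⟩ := QuotientGroup.mk_surjective x
        show Additive.ofMul ((φ (a * b) y : P) : P ⧸ Z) = Additive.ofMul ((φ a (φ b y) : P) : P ⧸ Z)
        rw [map_mul, MulAut.mul_apply] }
  have hall := aniso_trivial lin q (E := E1) ?_ ?_ ?_ ?_ ?_
  · haveI := hsolv Z
    refine hne (stab_trivial φ Z hZfix fun t x => ?_)
    have h : Additive.ofMul ((φ t x : P) : P ⧸ Z) = Additive.ofMul (x : P ⧸ Z) :=
      LinearMap.congr_fun (hall t) (Additive.ofMul (x : P ⧸ Z))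
    have h' := Additive.ofMul.injective h
    rwa [← mul_inv_eq_one, ← QuotientGroup.mk_inv, ← QuotientGroup.mk_mul, QuotientGroup.eq_one_iff] at h'
  · intro u v w
    obtain ⟨x, rfl⟩ := Additive.ofMul.surjective u
    obtain ⟨x, rfl⟩ := QuotientGroup.mk_surjective x
    obtain ⟨y, rfl⟩ := Additive.ofMul.surjective v
    obtain ⟨y, rfl⟩ := QuotientGroup.mk_surjective y
    obtain ⟨z, rfl⟩ := Additive.ofMul.surjective w
    obtain ⟨z, rfl⟩ := QuotientGroup.mk_surjective z
    refine Subtype.ext ?_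
    show pol q₀ _ _ = pol q₀ _ _ + pol q₀ _ _
    rw [← ofMul_mul, ← QuotientGroup.mk_mul, hpol, hpol, hpol, ← cls_mul]
    refine congrArg cls (Subtype.ext ?_)
    show (x * y)⁻¹ * z * (x * y) * z⁻¹ = (x⁻¹ * z * x * z⁻¹) * (y⁻¹ * z * y * z⁻¹)
    have hh := mem_center_iff.1 (hcz x z) y⁻¹
    calc (x * y)⁻¹ * z * (x * y) * z⁻¹ = y⁻¹ * (x⁻¹ * z * x * z⁻¹) * (z * y * z⁻¹) := by group
      _ = _ := by rw [hh]; group
  · intro u hu
    obtain ⟨x, rfl⟩ := Additive.ofMul.surjective u
    obtain ⟨x, rfl⟩ := QuotientGroup.mk_surjective x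
    have h : cls (sqZ x) = cls 1 := ((hq₀ x).symm.trans (congrArg Subtype.val hu))
    have h' := (QuotientGroup.eq_one_iff (sqZ x)).1 (Additive.ofMul.injective h)
    obtain ⟨z, hz⟩ := MonoidHom.mem_range.1 h'
    have hz' : (z : P) ^ 2 = x ^ 2 := congrArg Subtype.val hz
    have hcx : Commute x (z : P)⁻¹ := (show Commute x (z : P) from mem_center_iff.1 z.2 x).inv_right
    have h1 : x * (z : P)⁻¹ ∈ Z := mem_center_iff.2 fun g => (hcen _ (by
      rw [← sq, hcx.mul_pow, inv_pow, hz', mul_inv_cancel]) g).symm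
    have hxZ : x ∈ Z := by simpa using Z.mul_mem h1 z.2
    exact congrArg Additive.ofMul ((QuotientGroup.eq_one_iff x).2 hxZ)
  · rw [eq_top_iff]
    rintro ⟨e, he⟩ -
    have h : (Submodule.span (ZMod 2) (Set.range q)).map E1.subtype = E1 := by
      rw [Submodule.map_span, ← Set.range_comp]
      rfl
    obtain ⟨e', he', hee⟩ := h.ge he
    rwa [show (⟨e, he⟩ : E1) = e' from Subtype.ext hee.symm]
  · intro t u
    obtain ⟨x, rfl⟩ := Additive.ofMul.surjective u
    obtain ⟨x, rfl⟩ := QuotientGroup.mk_surjective x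
    refine Subtype.ext ?_
    show q₀ (Additive.ofMul ((φ t x : P) : P ⧸ Z)) = q₀ _
    rw [hq₀, hq₀]
    exact congrArg cls (Subtype.ext (hsqfix t x))
  · intro W hW
    let M : Subgroup P :=
      { carrier := {x | Additive.ofMul (x : P ⧸ Z) ∈ W}
        one_mem' := W.zero_mem
        mul_mem' := fun ha hb => W.add_mem ha hb
        inv_mem' := fun ha => W.neg_mem ha }
    have hMmem : ∀ {x}, x ∈ M ↔ Additive.ofMul (x : P ⧸ Z) ∈ W := Iff.rfl
    rcases hmax M (fun z hz => hMmem.2 (by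
        rw [(QuotientGroup.eq_one_iff z).2 hz]; exact W.zero_mem)) (fun t m hm => hW t _ hm) with h | h
    · refine Or.inl ((Submodule.eq_bot_iff _).2 fun u hu => ?_)
      obtain ⟨x, rfl⟩ := Additive.ofMul.surjective u
      obtain ⟨x, rfl⟩ := QuotientGroup.mk_surjective x
      exact congrArg Additive.ofMul ((QuotientGroup.eq_one_iff x).2 (h ▸ (hMmem.2 hu)))
    · refine Or.inr (eq_top_iff.2 fun u _ => ?_)
      obtain ⟨x, rfl⟩ := Additive.ofMul.surjective u
      obtain ⟨x, rfl⟩ := QuotientGroup.mk_surjective x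
      exact hMmem.1 (h ▸ mem_top x)

/-- A perfect group acting on a 2-group, all of whose involutions are central and fixed, acts trivially. -/
theorem central_fixed_trivial {T : Type u} [Group T] [Finite T] [Group.IsPerfect T] {P : Type v} [Group P]
    [Finite P] (hP : IsPGroup 2 P) (φ : T →* MulAut P) (hcen : ∀ x : P, x * x = 1 → ∀ y, Commute x y)
    (hfix : ∀ x : P, x * x = 1 → ∀ t, φ t x = x) : ∀ t x, φ t x = x :=
  central_fixed_aux (Nat.card P) P le_rfl hP φ hcen hfix

end Cfsg.Lib.OutSol
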