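import Cfsg.Agent.OutSol.Extend
import Cfsg.Agent.OutSol.TwoGroupAut
import Cfsg.Agent.OutSol.Six

/-!
Sylow 2-subgroups with commuting involutions forming one class.
-/

set_option autoImplicit false
set_option linter.style.haveILetI false
set_option linter.unusedSectionVars false

namespace Cfsg.Lib.OutSol

open Subgroup

universe u

variable {G : Type u} [Group G] [Finite G]

theorem le_of_transitive {X : Type u} [Group X] [Finite X] {U : Type u} [AddCommGroup U] [Module (ZMod 2) U]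
    [Finite U] [Nontrivial U] (ρ : X →* Module.End (ZMod 2) U) (hρ : Function.Injective ρ) (Y : Subgroup X)
    [Y.Normal] (htr : ∀ u v : U, u ≠ 0 → v ≠ 0 → ∃ y ∈ Y, ρ y u = v) (T : Subgroup X) [Group.IsPerfect T] :
    T ≤ Y := by
  set n := Module.finrank (ZMod 2) U with hn
  have hU : Nat.card U = 2 ^ n := by
    rw [Module.natCard_eq_pow_finrank (K := ZMod 2) (V := U), Nat.card_zmod]
  have hn0 : 0 < n := Nat.pos_of_ne_zero fun h => by
    rw [h, pow_zero] at hU
    exact absurd (Finite.one_lt_card (α := U)) (by omega)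
  rcases eq_or_ne n 1 with h1 | h1
  · intro t ht
    letI : MulAction T U :=
      { smul := fun s x => ρ (s : X) x
        one_smul := fun x => by show ρ ((1 : T) : X) x = x; simp
        mul_smul := fun a b x => apply_mul ρ (a : X) b x }
    have h := perfect_perm_trivial (Ω := U) (by rw [hU, h1]; norm_num) (MulAction.toPermHom T U) ⟨t, ht⟩
    have e : t = 1 := hρ (LinearMap.ext fun x => by
      rw [map_one]; exact Equiv.Perm.congr_fun h x)
    rw [e]; exact one_mem _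
  rcases eq_or_ne n 6 with h6 | h6
  · exact perfect_le_of_six ρ hρ (by rw [hU, h6]; norm_num) Y htr T
  obtain ⟨r, hr, hrd, hprim⟩ := Cfsg.Lib.Zsigmondy.zsigmondy 2 n (by norm_num) (by omega) (fun h => h6 h.2) (by
    rintro ⟨-, m, hm⟩
    rcases m with _ | _ | m
    · norm_num at hm
    · norm_num at hm
    · have : 4 ≤ 2 ^ (m + 2) := by rw [pow_add]; exact Nat.le_mul_of_pos_left 4 (by positivity)
      omega)
  haveI := Fact.mk hr
  exact perfect_le_of_primitive ρ hρ Y htr hU hn0 hrd hprim T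

theorem one_class_trivial (S : Sylow 2 G) (hS1 : (S : Subgroup G) ≠ ⊥)
    (hcomm : ∀ s ∈ S, ∀ t ∈ S, orderOf s = 2 → orderOf t = 2 → s * t = t * s)
    (hconj : ∀ s ∈ S, ∀ t ∈ S, orderOf s = 2 → orderOf t = 2 → ∃ g : G, g * s * g⁻¹ = t)
    (T : Subgroup (MulAut (S : Subgroup G))) [Group.IsPerfect T] (hT : T ≤ extenders (S : Subgroup G)) : T = ⊥ := by
  classical
  haveI : Fact (Nat.Prime 2) := ⟨Nat.prime_two⟩
  haveI := finite_mulAut (S : Subgroup G)
  haveI := finite_mulAut G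
  have hord : ∀ {s : G}, s * s = 1 → s ≠ 1 → orderOf s = 2 := fun {s} h h' =>
    orderOf_eq_prime (by rw [sq]; exact h) h'
  have hc2 : ∀ a ∈ (S : Subgroup G), ∀ b ∈ (S : Subgroup G), a * a = 1 → b * b = 1 → a * b = b * a := by
    intro a ha b hb ha2 hb2
    rcases eq_or_ne a 1 with rfl | ha1
    · simp
    rcases eq_or_ne b 1 with rfl | hb1
    · simp
    exact hcomm a ha b hb (hord ha2 ha1) (hord hb2 hb1)
  let E : Subgroup G :=
    { carrier := {x | x ∈ (S : Subgroup G) ∧ x * x = 1}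
      one_mem' := ⟨one_mem _, one_mul 1⟩
      mul_mem' := fun {a b} ha hb => ⟨mul_mem ha.1 hb.1, by
        rw [_root_.mul_assoc, ← _root_.mul_assoc b, ← hc2 a ha.1 b hb.1 ha.2 hb.2, _root_.mul_assoc a b, hb.2,
          _root_.mul_one, ha.2]⟩
      inv_mem' := fun {a} ha => ⟨inv_mem ha.1, by rw [← _root_.mul_inv_rev, ha.2, inv_one]⟩ }
  have hEmem : ∀ {x : G}, x ∈ E ↔ x ∈ (S : Subgroup G) ∧ x * x = 1 := fun {x} => Iff.rfl
  have hEc : ∀ a b : E, a * b = b * a := fun a b => Subtype.ext (hc2 a a.2.1 b b.2.1 a.2.2 b.2.2)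
  letI : CommGroup E := { (inferInstance : Group E) with mul_comm := hEc }
  letI : Module (ZMod 2) (Additive E) := AddCommGroup.zmodModule fun a => by
    obtain ⟨x, rfl⟩ := Additive.ofMul.surjective a
    exact congrArg Additive.ofMul (show x ^ 2 = 1 from Subtype.ext (by
      rw [Subgroup.coe_pow, sq]; exact x.2.2))
  -- a central involution
  haveI : Nontrivial (S : Subgroup G) := (Subgroup.nontrivial_iff_ne_bot _).2 hS1
  obtain ⟨z, hzE, hz1, hzc⟩ : ∃ z ∈ E, z ≠ 1 ∧ ∀ s ∈ (S : Subgroup G), z * s = s * z := by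
    haveI := S.isPGroup'.center_nontrivial
    obtain ⟨k, hk⟩ := (S.isPGroup'.to_subgroup (center (S : Subgroup G))).exists_card_eq
    have hk0 : k ≠ 0 := fun h => by
      rw [h, pow_zero] at hk
      exact absurd (Finite.one_lt_card (α := center (S : Subgroup G))) (by omega)
    obtain ⟨⟨⟨z, hzS⟩, hzc⟩, hz⟩ := exists_prime_orderOf_dvd_card' 2 (hk ▸ dvd_pow_self 2 hk0)
    rw [Subgroup.orderOf_mk, Subgroup.orderOf_mk] at hz
    refine ⟨z, ⟨hzS, by rw [← sq, ← hz, pow_orderOf_eq_one]⟩, fun h => ?_, fun s hs =>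
      congrArg Subtype.val (mem_center_iff.1 hzc ⟨s, hs⟩).symm⟩
    rw [h, orderOf_one] at hz
    omega
  haveI : Nontrivial E := ⟨⟨⟨z, hzE⟩, 1, fun h => hz1 (congrArg Subtype.val h)⟩⟩
  haveI : Nontrivial (Additive E) := inferInstance
  set NG := normalizer (E : Set G) with hNG
  -- the normalizer is transitive
  have hzconj : ∀ t ∈ E, t ≠ 1 → ∃ n ∈ NG, n * t * n⁻¹ = z := by
    intro t ht ht1
    obtain ⟨g, hg⟩ := hconj z hzE.1 t ht.1 (hord hzE.2 hz1) (hord ht.2 ht1)
    set C := centralizer ({t} : Set G)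
    obtain ⟨S', hS'⟩ : ∃ S' : Sylow 2 G, ∀ x, x ∈ (S' : Subgroup G) ↔ g⁻¹ * x * g ∈ (S : Subgroup G) := by
      refine ⟨MulAut.conj g • S, fun x => ?_⟩
      rw [Sylow.pointwise_smul_def, Subgroup.mem_pointwise_smul_iff_inv_smul_mem]
      show (MulAut.conj g)⁻¹ x ∈ (S : Subgroup G) ↔ _
      rw [← map_inv, MulAut.conj_apply, inv_inv]
    have hS'C : (S' : Subgroup G) ≤ C := fun x hx => mem_centralizer_iff.2 fun y hy => by
      rw [Set.mem_singleton_iff.1 hy, ← hg]
      have h := hzc _ ((hS' x).1 hx)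
      calc g * z * g⁻¹ * x = g * (z * (g⁻¹ * x * g)) * g⁻¹ := by group
        _ = g * ((g⁻¹ * x * g) * z) * g⁻¹ := by rw [h]
        _ = x * (g * z * g⁻¹) := by group
    have hEC : E ≤ C := fun x hx => mem_centralizer_iff.2 fun y hy => by
      rw [Set.mem_singleton_iff.1 hy]; exact hc2 t ht.1 x hx.1 ht.2 hx.2
    have hEp : IsPGroup 2 E := S.isPGroup'.to_le fun x hx => hx.1
    obtain ⟨c, hcC, hc⟩ := Cfsg.Lib.ZStarApps.exists_conj_mem_sylow S' hS'C hEp hEC
    refine ⟨g⁻¹ * c, Cfsg.Lib.ZStarApps.mem_normalizer_of_maps fun e he => ⟨?_, ?_⟩, ?_⟩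
    · have h := (hS' _).1 (hc e he)
      rwa [show g⁻¹ * c * e * (g⁻¹ * c)⁻¹ = g⁻¹ * (c * e * c⁻¹) * g by group]
    · rw [show g⁻¹ * c * e * (g⁻¹ * c)⁻¹ * (g⁻¹ * c * e * (g⁻¹ * c)⁻¹) = g⁻¹ * c * (e * e) * (g⁻¹ * c)⁻¹ by group,
        he.2]
      group
    · have hct : c * t * c⁻¹ = t := by
        rw [← mem_centralizer_iff.1 hcC t rfl, mul_inv_cancel_right]
      rw [show g⁻¹ * c * t * (g⁻¹ * c)⁻¹ = g⁻¹ * (c * t * c⁻¹) * g by group, hct, ← hg]
      group
  -- the actions on `E`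
  let NA : Subgroup (MulAut G) :=
    { carrier := {σ | ∀ x, σ x ∈ E ↔ x ∈ E}
      one_mem' := fun x => Iff.rfl
      mul_mem' := fun {a b} (ha : ∀ x, a x ∈ E ↔ x ∈ E) (hb : ∀ x, b x ∈ E ↔ x ∈ E) => fun x => by
        show a (b x) ∈ _ ↔ _
        rw [ha, hb]
      inv_mem' := fun {a} (ha : ∀ x, a x ∈ E ↔ x ∈ E) => fun x => by
        rw [← ha (a⁻¹ x)]
        show a (a⁻¹ x) ∈ _ ↔ _
        rw [MulAut.apply_inv_self] }
  let resE : NA →* Module.End (ZMod 2) (Additive E) :=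
    { toFun := fun σ => (MonoidHom.toAdditive (MonoidHom.mk' (fun x : E => (⟨(σ : MulAut G) x, (σ.2 x).2 x.2⟩ : E))
        fun x y => Subtype.ext (map_mul (σ : MulAut G) (x : G) y))).toZModLinearMap 2
      map_one' := LinearMap.ext fun x => rfl
      map_mul' := fun a b => LinearMap.ext fun x => rfl }
  let X := resE.toHomUnits.range
  haveI : Finite (Module.End (ZMod 2) (Additive E)) := DFunLike.finite _
  haveI : Finite X := Subtype.finite
  let ρ : X →* Module.End (ZMod 2) (Additive E) := (Units.coeHom _).comp X.subtype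
  have hρ : Function.Injective ρ := fun a b e => Subtype.ext (Units.ext e)
  haveI : Finite NA := inferInstance
  let inn : NG →* NA := MonoidHom.codRestrict ((MulAut.conj : G →* MulAut G).comp NG.subtype) NA fun g x => by
    show (g : G) * x * (g : G)⁻¹ ∈ E ↔ x ∈ E
    exact (mem_normalizer_iff.1 g.2 x).symm
  let cE : NG →* X := resE.toHomUnits.rangeRestrict.comp inn
  have hcE : ∀ (g : NG) (x : E), ((Additive.toMul (ρ (cE g) (Additive.ofMul x)) : E) : G) = (g : G) * x * (g : G)⁻¹ :=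
    fun g x => rfl
  let Y := cE.range
  haveI hYn : Y.Normal := ⟨by
    rintro _ ⟨g, rfl⟩ ⟨_, σ, rfl⟩
    have hσg : (σ : MulAut G) g ∈ NG := Cfsg.Lib.ZStarApps.mem_normalizer_of_maps fun e he => by
      have h := (σ.2 ((g : G) * (σ : MulAut G)⁻¹ e * (g : G)⁻¹)).2 ((mem_normalizer_iff.1 g.2 _).1
        ((σ.2 _).1 (by rw [MulAut.apply_inv_self]; exact he)))
      rwa [map_mul, map_mul, map_inv, MulAut.apply_inv_self] at h
    refine ⟨⟨_, hσg⟩, ?_⟩
    have e : inn ⟨_, hσg⟩ = σ * inn g * σ⁻¹ := Subtype.ext (MulEquiv.ext fun x => by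
      show (σ : MulAut G) g * x * ((σ : MulAut G) g)⁻¹ = (σ : MulAut G) ((g : G) * (σ : MulAut G)⁻¹ x * (g : G)⁻¹)
      rw [map_mul, map_mul, map_inv, MulAut.apply_inv_self])
    show resE.toHomUnits.rangeRestrict (inn ⟨_, hσg⟩) = _
    rw [e, map_mul, map_mul, map_inv]
    rfl⟩
  have htr : ∀ u v : Additive E, u ≠ 0 → v ≠ 0 → ∃ y ∈ Y, ρ y u = v := by
    intro u v hu hv
    obtain ⟨a, rfl⟩ := Additive.ofMul.surjective u
    obtain ⟨b, rfl⟩ := Additive.ofMul.surjective v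
    obtain ⟨m, hm, hma⟩ := hzconj a a.2 fun h => hu (congrArg Additive.ofMul (Subtype.ext h))
    obtain ⟨n, hn, hnb⟩ := hzconj b b.2 fun h => hv (congrArg Additive.ofMul (Subtype.ext h))
    refine ⟨cE ⟨n⁻¹ * m, mul_mem (inv_mem hn) hm⟩, ⟨_, rfl⟩, Additive.toMul.injective (Subtype.ext ?_)⟩
    rw [hcE]
    show n⁻¹ * m * a * (n⁻¹ * m)⁻¹ = (b : G)
    rw [show n⁻¹ * m * (a : G) * (n⁻¹ * m)⁻¹ = n⁻¹ * (m * a * m⁻¹) * n by group, hma, ← hnb]
    group
  -- the action of `T`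
  have hφE : ∀ (φ : MulAut (S : Subgroup G)) (x : E), ((φ ⟨x, x.2.1⟩ : (S : Subgroup G)) : G) ∈ E := fun φ x =>
    ⟨SetLike.coe_mem _, by
      rw [← Subgroup.coe_mul, ← map_mul,
        show (⟨(x : G), x.2.1⟩ : (S : Subgroup G)) * ⟨(x : G), x.2.1⟩ = 1 from Subtype.ext x.2.2, map_one]
      rfl⟩
  let ωE : T →* Module.End (ZMod 2) (Additive E) :=
    { toFun := fun φ => (MonoidHom.toAdditive (MonoidHom.mk' (fun x : E =>
        (⟨((φ : MulAut (S : Subgroup G)) ⟨x, x.2.1⟩ : (S : Subgroup G)), hφE φ x⟩ : E))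
        fun x y => Subtype.ext (congrArg (fun q : (S : Subgroup G) => (q : G))
          (map_mul (φ : MulAut (S : Subgroup G)) ⟨x, x.2.1⟩ ⟨y, y.2.1⟩)))).toZModLinearMap 2
      map_one' := LinearMap.ext fun x => rfl
      map_mul' := fun a b => LinearMap.ext fun x => rfl }
  have hωmem : ∀ φ : T, ωE.toHomUnits φ ∈ X := fun φ => by
    obtain ⟨σ, hσ⟩ := hT φ.2
    have hσN : σ ∈ NA := by
      have h1 : ∀ x ∈ E, σ x ∈ E := fun x hx => by
        have := hφE φ ⟨x, hx⟩
        rwa [hσ] at this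
      intro x
      refine ⟨fun hx => ?_, h1 x⟩
      have hi : Function.Injective (fun e : E => (⟨σ e, h1 e e.2⟩ : E)) := fun a b e =>
        Subtype.ext (σ.injective (congrArg Subtype.val e))
      obtain ⟨e, he⟩ := Finite.injective_iff_surjective.1 hi ⟨_, hx⟩
      exact (σ.injective (congrArg Subtype.val he)) ▸ e.2
    refine ⟨⟨σ, hσN⟩, Units.ext (LinearMap.ext fun x => ?_)⟩
    obtain ⟨x, rfl⟩ := Additive.ofMul.surjective x
    exact Additive.toMul.injective (Subtype.ext (hσ ⟨x, x.2.1⟩).symm)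
  let ω : T →* X := ωE.toHomUnits.codRestrict X hωmem
  haveI := Group.IsPerfect.range ω
  have hωY : ∀ φ, ω φ ∈ Y := fun φ => le_of_transitive ρ hρ Y htr ω.range ⟨φ, rfl⟩
  -- it normalizes a Sylow subgroup
  have hSN : (S : Subgroup G) ≤ NG := fun s hs => Cfsg.Lib.ZStarApps.mem_normalizer_of_maps fun e he =>
    ⟨mul_mem (mul_mem hs he.1) (inv_mem hs), by
      rw [show s * e * s⁻¹ * (s * e * s⁻¹) = s * (e * e) * s⁻¹ by group, he.2]; group⟩
  let f := cE.rangeRestrict
  let Sy : Subgroup Y := ((S : Subgroup G).subgroupOf NG).map f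
  let D := normalizer (Sy : Set Y)
  haveI : Group.IsSolvable D := by
    refine isSolvable_of_normal_two (Sy.subgroupOf D) ?_ fun h => ?_
    · exact ((S.isPGroup'.of_equiv (subgroupOfEquivOfLe hSN).symm).map f).of_equiv
        (subgroupOfEquivOfLe le_normalizer).symm
    · refine S.not_dvd_index (h.trans ?_)
      have h1 : (Sy.subgroupOf D).index ∣ Sy.index := ⟨_, (relIndex_mul_index le_normalizer).symm⟩
      have h2 : Sy.index ∣ ((S : Subgroup G).subgroupOf NG).index :=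
        Subgroup.index_map_dvd _ cE.rangeRestrict_surjective
      have h3 : ((S : Subgroup G).subgroupOf NG).index ∣ (S : Subgroup G).index :=
        ⟨_, (relIndex_mul_index hSN).symm⟩
      exact h1.trans (h2.trans h3)
  have hωD : ∀ φ, (⟨ω φ, hωY φ⟩ : Y) ∈ D := fun φ => Cfsg.Lib.ZStarApps.mem_normalizer_of_maps fun y hy => by
    obtain ⟨⟨s, hsN⟩, hs, rfl⟩ := hy
    have hs' : s ∈ (S : Subgroup G) := hs
    set s' : G := (((φ : MulAut (S : Subgroup G)) ⟨s, hs'⟩ : (S : Subgroup G)) : G)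
    refine ⟨⟨s', hSN (SetLike.coe_mem _)⟩, show s' ∈ (S : Subgroup G) from SetLike.coe_mem _, ?_⟩
    refine Subtype.ext (eq_mul_inv_of_mul_eq (hρ (LinearMap.ext fun x => ?_)))
    obtain ⟨x, rfl⟩ := Additive.ofMul.surjective x
    refine Additive.toMul.injective (Subtype.ext ?_)
    simp only [Subgroup.coe_mul, map_mul, Module.End.mul_apply]
    show s' * ((φ : MulAut (S : Subgroup G)) ⟨x, x.2.1⟩ : (S : Subgroup G)) * s'⁻¹ =
      (((φ : MulAut (S : Subgroup G)) ⟨s * x * s⁻¹, _⟩ : (S : Subgroup G)) : G)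
    have e : (⟨s * (x : G) * s⁻¹, mul_mem (mul_mem hs' x.2.1) (inv_mem hs')⟩ : (S : Subgroup G)) =
        ⟨s, hs'⟩ * ⟨x, x.2.1⟩ * ⟨s, hs'⟩⁻¹ := rfl
    rw [e, map_mul, map_mul, map_inv]
    rfl
  let ω' : T →* D := (ω.codRestrict Y hωY).codRestrict D hωD
  have hfixE : ∀ (φ : T) (x : E), ((φ : MulAut (S : Subgroup G)) ⟨x, x.2.1⟩ : G) = x := fun φ x => by
    have h : ω φ = 1 := congrArg Subtype.val (congrArg Subtype.val (perfect_hom_trivial ω' φ))
    exact congrArg (fun e : Additive E => ((Additive.toMul e : E) : G))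
      (LinearMap.congr_fun (congrArg ρ h) (Additive.ofMul x))
  -- the centralizer of `E` in `S`
  let P : Subgroup (S : Subgroup G) := (centralizer (E : Set G)).subgroupOf (S : Subgroup G)
  have hPinv : ∀ (φ : T), ∀ p ∈ P, (φ : MulAut (S : Subgroup G)) p ∈ P := fun φ p hp => by
    rw [mem_subgroupOf, mem_centralizer_iff]
    intro e he
    have h : (⟨e, he.1⟩ : (S : Subgroup G)) * p = p * ⟨e, he.1⟩ :=
      Subtype.ext (mem_centralizer_iff.1 (mem_subgroupOf.1 hp) e he)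
    have h' := congrArg (fun q : (S : Subgroup G) => (((φ : MulAut (S : Subgroup G)) q : (S : Subgroup G)) : G)) h
    simp only [map_mul, Subgroup.coe_mul, hfixE φ ⟨e, he⟩] at h'
    exact h'
  let ψ : T →* MulAut P := MonoidHom.mk' (fun φ =>
    { toFun := fun x => ⟨(φ : MulAut (S : Subgroup G)) x, hPinv φ x x.2⟩
      invFun := fun x => ⟨((φ : MulAut (S : Subgroup G)))⁻¹ x, hPinv φ⁻¹ x x.2⟩
      left_inv := fun x => Subtype.ext (MulAut.inv_apply_self _ (φ : MulAut (S : Subgroup G)) (x : (S : Subgroup G)))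
      right_inv := fun x => Subtype.ext (MulAut.apply_inv_self _ (φ : MulAut (S : Subgroup G)) (x : (S : Subgroup G)))
      map_mul' := fun x y => Subtype.ext (map_mul (φ : MulAut (S : Subgroup G)) (x : (S : Subgroup G)) y) })
    fun a b => MulEquiv.ext fun x => Subtype.ext rfl
  have hsqE : ∀ x : P, x * x = 1 → ((x : (S : Subgroup G)) : G) ∈ E := fun x hx =>
    ⟨SetLike.coe_mem _, congrArg (fun y : P => ((y : (S : Subgroup G)) : G)) hx⟩
  have hPfix := central_fixed_trivial (S.isPGroup'.to_subgroup P) ψ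
    (fun x hx y => Subtype.ext (Subtype.ext (mem_centralizer_iff.1 (mem_subgroupOf.1 y.2) _ (hsqE x hx))))
    (fun x hx φ => Subtype.ext (Subtype.ext (hfixE φ ⟨_, hsqE x hx⟩)))
  haveI : Group.IsNilpotent (S : Subgroup G) := S.isPGroup'.isNilpotent
  haveI : Group.IsSolvable P := inferInstance
  have hall := stab_trivial T.subtype P (fun φ m hm => congrArg Subtype.val (hPfix φ ⟨m, hm⟩)) fun φ x => by
    rw [mem_subgroupOf, mem_centralizer_iff]
    intro e he
    have he' : (x : G)⁻¹ * e * x ∈ E := by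
      simpa using (mem_normalizer_iff.1 (inv_mem (hSN x.2)) e).1 he
    have h := congrArg (fun q : (S : Subgroup G) => (((φ : MulAut (S : Subgroup G)) q : (S : Subgroup G)) : G))
      (show x * (⟨_, he'.1⟩ : (S : Subgroup G)) = ⟨e, he.1⟩ * x from Subtype.ext (by
        show (x : G) * ((x : G)⁻¹ * e * x) = e * x; group))
    simp only [map_mul, Subgroup.coe_mul, hfixE φ ⟨_, he⟩, hfixE φ ⟨_, he'⟩] at h
    show e * (((φ : MulAut (S : Subgroup G)) x : (S : Subgroup G)) * (x : G)⁻¹ : G) =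
      ((φ : MulAut (S : Subgroup G)) x : (S : Subgroup G)) * (x : G)⁻¹ * e
    rw [← _root_.mul_assoc, ← h]
    group
  exact (Subgroup.eq_bot_iff_forall _).2 fun φ hφ => MulEquiv.ext fun x => hall ⟨φ, hφ⟩ x

end Cfsg.Lib.OutSol
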