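import Cfsg.Agent.OutSol.Extend
import Cfsg.Agent.PGroups.AutOrder
import Cfsg.Agent.FusionFrame.AutCard
import Cfsg.Agent.InvolCalc.MetacyclicFrame

/-!
Sylow 2-subgroups with two or three generators.
-/

set_option autoImplicit false
set_option linter.style.haveILetI false
set_option linter.unusedSectionVars false

namespace Cfsg.Lib.OutSol

open Subgroup

universe u

theorem closure_insert_card {V : Type u} [Group V] [Finite V] (hsq : ∀ x : V, x * x = 1) (a : V) (s : Set V) :
    Nat.card (closure (insert a s)) ≤ 2 * Nat.card (closure s) := by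
  have hc : ∀ x y : V, x * y = y * x := fun x y => by
    have hi : ∀ p : V, p⁻¹ = p := fun p => inv_eq_of_mul_eq_one_left (hsq p)
    rw [← hi (x * y), _root_.mul_inv_rev, hi, hi]
  let K : Subgroup V :=
    { carrier := {x | x ∈ closure s ∨ a * x ∈ closure s}
      one_mem' := Or.inl (one_mem _)
      mul_mem' := fun {x y} hx hy => by
        rcases hx with hx | hx <;> rcases hy with hy | hy
        · exact Or.inl (mul_mem hx hy)
        · exact Or.inr (by rw [← mul_assoc, hc a x, mul_assoc]; exact mul_mem hx hy)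
        · exact Or.inr (by rw [← mul_assoc]; exact mul_mem hx hy)
        · refine Or.inl ?_
          have e : x * y = (a * x) * (a * y) := by
            rw [hc a x, mul_assoc x, ← mul_assoc a, hsq, one_mul]
          rw [e]; exact mul_mem hx hy
      inv_mem' := fun {x} hx => by rwa [inv_eq_of_mul_eq_one_left (hsq x)] }
  have hle : closure (insert a s) ≤ K := (closure_le _).2 (by
    rintro x (rfl | hx)
    · exact Or.inr (by rw [hsq]; exact one_mem _)
    · exact Or.inl (subset_closure hx))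
  classical
  refine (card_le_of_le hle).trans ?_
  refine (Nat.card_le_card_of_surjective (fun p : Bool × closure s => (⟨if p.1 then a * p.2 else p.2, ?_⟩ : K))
    fun x => ?_).trans (by simp [Nat.card_prod])
  · split_ifs
    · exact Or.inr (by rw [← mul_assoc, hsq, one_mul]; exact p.2.2)
    · exact Or.inl p.2.2
  · rcases x.2 with hx | hx
    · exact ⟨(false, ⟨x, hx⟩), Subtype.ext rfl⟩
    · exact ⟨(true, ⟨_, hx⟩), Subtype.ext (by simp [← mul_assoc, hsq])⟩

variable {G : Type u} [Group G] [Finite G]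

theorem frattini_index_three {P : Type u} [Group P] [Finite P] (hP : IsPGroup 2 P) {a b c : P}
    (h : closure ({a, b, c} : Set P) = ⊤) : ∃ r, r ≤ 3 ∧ (frattini P).index = 2 ^ r ∧
      ((c = 1 ∨ c = b) → r ≤ 2) := by
  haveI : Fact (Nat.Prime 2) := ⟨Nat.prime_two⟩
  have hq : ∀ x : P ⧸ frattini P, x * x = 1 := fun x => by
    rw [← sq]; exact Cfsg.Lib.PGroups.pow_prime_quotient_frattini hP x
  obtain ⟨r, hr⟩ := (hP.to_quotient (frattini P)).exists_card_eq
  have htop : closure ({(a : P ⧸ frattini P), (b : P ⧸ frattini P), (c : P ⧸ frattini P)} : Set (P ⧸ frattini P)) = ⊤ := by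
    have e := MonoidHom.map_closure (QuotientGroup.mk' (frattini P)) ({a, b, c} : Set P)
    rw [h, Subgroup.map_top_of_surjective _ (QuotientGroup.mk'_surjective _)] at e
    rw [e]
    simp [Set.image_insert_eq]
  have hone : Nat.card (closure ({(1 : P ⧸ frattini P)} : Set (P ⧸ frattini P))) = 1 := by
    rw [closure_singleton_one]; simp
  have hsingle : ∀ x : P ⧸ frattini P, Nat.card (closure ({x} : Set (P ⧸ frattini P))) ≤ 2 := fun x => by
    have := closure_insert_card hq x (∅ : Set (P ⧸ frattini P))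
    rw [Subgroup.closure_empty, card_bot, mul_one] at this
    simpa using this
  have hpair : ∀ x y : P ⧸ frattini P, Nat.card (closure ({x, y} : Set (P ⧸ frattini P))) ≤ 4 := fun x y =>
    (closure_insert_card hq x {y}).trans (by linarith [hsingle y])
  have h8 : 2 ^ r ≤ 2 ^ 3 := by
    rw [← hr, ← Subgroup.card_top, ← htop]
    exact (closure_insert_card hq _ _).trans (by linarith [hpair (b : P ⧸ frattini P) (c : P ⧸ frattini P)])
  refine ⟨r, (Nat.pow_le_pow_iff_right (by norm_num)).1 h8, by rw [Subgroup.index_eq_card, hr], fun hc => ?_⟩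
  refine (Nat.pow_le_pow_iff_right (show 1 < 2 by norm_num)).1 ?_
  rw [← hr, ← Subgroup.card_top, ← htop]
  refine (closure_insert_card hq _ _).trans ?_
  have hbc : Nat.card (closure ({(b : P ⧸ frattini P), (c : P ⧸ frattini P)} : Set (P ⧸ frattini P))) ≤ 2 := by
    rcases hc with rfl | rfl
    · rw [QuotientGroup.mk_one, Set.pair_comm, closure_insert_one]; exact hsingle _
    · rw [Set.pair_eq_singleton]; exact hsingle _
  omega

theorem isSolvable_mulAut_of_rank_two {P : Type u} [Group P] [Finite P] (hP : IsPGroup 2 P) {r : ℕ}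
    (hr : (frattini P).index = 2 ^ r) (hr2 : r ≤ 2) : Group.IsSolvable (MulAut P) := by
  haveI : Fact (Nat.Prime 2) := ⟨Nat.prime_two⟩
  haveI := finite_mulAut P
  obtain ⟨n, hn⟩ := IsPGroup.iff_card.1 hP
  have h := Cfsg.Lib.PGroups.card_aut_dvd hn hr
  have h6 : ∏ i ∈ Finset.range r, (2 ^ r - 2 ^ i) ∣ 2 * 3 := by
    interval_cases r <;> simp [Finset.prod_range_succ]
  have h' : Nat.card (MulAut P) ∣ 2 ^ (r * (n - r) + 1) * 3 ^ 1 :=
    (h.trans (Nat.mul_dvd_mul_left _ h6)).trans (dvd_of_eq (by ring))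
  obtain ⟨d1, d2, h1, h2, e⟩ := Nat.dvd_mul.1 h'
  obtain ⟨i, -, rfl⟩ := (Nat.dvd_prime_pow Nat.prime_two).1 h1
  obtain ⟨j, -, rfl⟩ := (Nat.dvd_prime_pow Nat.prime_three).1 h2
  exact Cfsg.Lib.Chars.burnside_isSolvable 2 3 Nat.prime_two Nat.prime_three _ ⟨i, j, e.symm⟩

theorem divisors_168 : ∀ d ∈ Nat.divisors 168, d = 168 ∨ d ∣ 84 ∨ d ∣ 56 ∨ d ∣ 24 := by decide

theorem perfect_dvd_168 {Q : Type u} [Group Q] [Finite Q] [Group.IsPerfect Q] (h : Nat.card Q ∣ 168)
    (hne : Nat.card Q ≠ 168) (x : Q) : x = 1 := by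
  haveI : Fact (Nat.Prime 7) := ⟨by norm_num⟩
  refine perfect_subsingleton ?_ x
  have two : ∀ {p : ℕ}, p.Prime → Nat.card Q ∣ 2 ^ 3 * p → Group.IsSolvable Q := fun {p} hp hd => by
    obtain ⟨d1, d2, h1, h2, e⟩ := Nat.dvd_mul.1 hd
    obtain ⟨i, -, rfl⟩ := (Nat.dvd_prime_pow Nat.prime_two).1 h1
    rcases (Nat.dvd_prime hp).1 h2 with rfl | rfl
    · exact Cfsg.Lib.Chars.burnside_isSolvable 2 p Nat.prime_two hp _ ⟨i, 0, by rw [pow_zero]; exact e.symm⟩
    · exact Cfsg.Lib.Chars.burnside_isSolvable 2 _ Nat.prime_two hp _ ⟨i, 1, by rw [pow_one]; exact e.symm⟩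
  rcases divisors_168 _ (Nat.mem_divisors.2 ⟨h, by norm_num⟩) with h' | h' | h' | h'
  · exact absurd h' hne
  · obtain ⟨P⟩ : Nonempty (Sylow 7 Q) := inferInstance
    have hi : (P : Subgroup Q).index ∣ 12 := by
      have h1 : (P : Subgroup Q).index ∣ 12 * 7 := (Subgroup.index_dvd_card _).trans h'
      exact (Nat.Coprime.dvd_mul_right ((Nat.Prime.coprime_iff_not_dvd (by norm_num)).2 P.not_dvd_index).symm).1 h1
    have hn : Nat.card (Sylow 7 Q) = 1 := by
      have h1 := card_sylow_modEq_one 7 Q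
      have h2 := P.card_dvd_index.trans hi
      have h3 := Nat.le_of_dvd (by norm_num) h2
      interval_cases (Nat.card (Sylow 7 Q)) <;> simp_all [Nat.ModEq]
    haveI : Subsingleton (Sylow 7 Q) := (Nat.card_eq_one_iff_unique.1 hn).1
    haveI : (P : Subgroup Q).Normal := P.normal_of_subsingleton
    haveI : Group.IsNilpotent (P : Subgroup Q) := P.isPGroup'.isNilpotent
    rw [Subgroup.index_eq_card] at hi
    haveI : Group.IsSolvable (Q ⧸ (P : Subgroup Q)) := by
      obtain ⟨d1, d2, h1, h2, e⟩ := Nat.dvd_mul.1 (show Nat.card (Q ⧸ (P : Subgroup Q)) ∣ 2 ^ 2 * 3 ^ 1 by simpa using hi)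
      obtain ⟨i, -, rfl⟩ := (Nat.dvd_prime_pow Nat.prime_two).1 h1
      obtain ⟨j, -, rfl⟩ := (Nat.dvd_prime_pow Nat.prime_three).1 h2
      exact Cfsg.Lib.Chars.burnside_isSolvable 2 3 Nat.prime_two Nat.prime_three _ ⟨i, j, e.symm⟩
    exact (Group.isSolvable_iff_subgroup_quotient (P : Subgroup Q)).2 ⟨inferInstance, inferInstance⟩
  · exact two (by norm_num) (h'.trans (dvd_of_eq (show 56 = 2 ^ 3 * 7 by norm_num)))
  · exact two Nat.prime_three (h'.trans (dvd_of_eq (show 24 = 2 ^ 3 * 3 by norm_num)))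

theorem three_gen_trivial (S : Sylow 2 G) {r : ℕ} (hr : (frattini (S : Subgroup G)).index = 2 ^ r) (hr3 : r ≤ 3)
    (hodd : ∃ g ∈ normalizer ((S : Subgroup G) : Set G), Odd (orderOf g) ∧ g ∉ centralizer ((S : Subgroup G) : Set G))
    (T : Subgroup (MulAut (S : Subgroup G))) [Group.IsPerfect T] (hT : T ≤ extenders (S : Subgroup G)) : T = ⊥ := by
  classical
  haveI : Fact (Nat.Prime 2) := ⟨Nat.prime_two⟩
  haveI := finite_mulAut (S : Subgroup G)
  by_cases hr2 : r ≤ 2
  · haveI := isSolvable_mulAut_of_rank_two S.isPGroup' hr hr2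
    exact (Subgroup.eq_bot_iff_forall _).2 fun t ht =>
      congrArg Subtype.val (perfect_subsingleton (T := T) inferInstance ⟨t, ht⟩)
  obtain rfl : r = 3 := by omega
  set Φ := frattini (S : Subgroup G) with hΦ
  haveI := Cfsg.Lib.PGroups.isMulCommutative_quotient_frattini (p := 2) S.isPGroup'
  letI : CommGroup ((S : Subgroup G) ⧸ Φ) :=
    { (inferInstance : Group ((S : Subgroup G) ⧸ Φ)) with mul_comm := fun a b =>
        (Cfsg.Lib.PGroups.isMulCommutative_quotient_frattini (p := 2) S.isPGroup').is_comm.comm a b }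
  haveI := finite_mulAut ((S : Subgroup G) ⧸ Φ)
  have hcard : Nat.card ((S : Subgroup G) ⧸ Φ) = 2 ^ 3 := by rw [← Subgroup.index_eq_card, hr]
  have h168 : Nat.card (MulAut ((S : Subgroup G) ⧸ Φ)) ∣ 168 := by
    have h := Cfsg.Lib.FusionFrame.mulAut_card_dvd (fun x => by
      rw [← sq]; exact Cfsg.Lib.PGroups.pow_prime_quotient_frattini S.isPGroup' x) hcard
    rw [Matrix.card_GL_field] at h
    simpa [Fin.prod_univ_three] using h
  have hchar : ∀ φ : MulAut (S : Subgroup G), Φ.map φ.toMonoidHom = Φ := fun φ =>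
    Subgroup.characteristic_iff_map_eq.1 frattini_characteristic φ
  let π : MulAut (S : Subgroup G) →* MulAut ((S : Subgroup G) ⧸ Φ) :=
    { toFun := fun φ => QuotientGroup.congr Φ Φ φ (hchar φ)
      map_one' := MulEquiv.ext fun q => by
        obtain ⟨x, rfl⟩ := QuotientGroup.mk_surjective q
        rfl
      map_mul' := fun a b => MulEquiv.ext fun q => by
        obtain ⟨x, rfl⟩ := QuotientGroup.mk_surjective q
        rfl }
  have hker : ∀ φ ∈ π.ker, Odd (orderOf φ) → φ = 1 := fun φ hφ ho => by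
    refine Cfsg.Lib.InvolCalc.MetaFrame.eq_one_of_mod_frattini S.isPGroup' φ ho fun x => ?_
    have h : ((φ x : (S : Subgroup G)) : (S : Subgroup G) ⧸ Φ) = (x : (S : Subgroup G) ⧸ Φ) :=
      MulEquiv.congr_fun (MonoidHom.mem_ker.1 hφ) (x : (S : Subgroup G) ⧸ Φ)
    rwa [← mul_inv_eq_one, ← QuotientGroup.mk_inv, ← QuotientGroup.mk_mul, QuotientGroup.eq_one_iff] at h
  have hkp : IsPGroup 2 π.ker := fun ⟨φ, hφ⟩ => by
    refine ⟨(orderOf φ).factorization 2, Subtype.ext (hker _ (pow_mem hφ _) ?_)⟩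
    show Odd (orderOf (φ ^ _))
    rw [orderOf_pow' φ (by positivity), Nat.gcd_eq_right (Nat.ordProj_dvd _ 2), Nat.odd_iff]
    have := Nat.not_dvd_ordCompl Nat.prime_two (orderOf_pos φ).ne'
    omega
  haveI : Group.IsNilpotent π.ker := hkp.isNilpotent
  let Tb := T.map π
  haveI : Group.IsPerfect Tb := Group.IsPerfect.map _
  have hTb : Tb = ⊥ := by
    by_contra hne
    have hTc : Nat.card Tb = 168 := by
      by_contra hc
      exact hne ((Subgroup.eq_bot_iff_forall _).2 fun t ht => congrArg Subtype.val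
        (perfect_dvd_168 ((Subgroup.card_subgroup_dvd_card Tb).trans h168) hc ⟨t, ht⟩))
    have hTtop : Tb = ⊤ := Subgroup.eq_top_of_card_eq _ (le_antisymm (Subgroup.card_le_card_group Tb)
      (hTc ▸ Nat.le_of_dvd (by norm_num) h168))
    let Yb := (π.comp (normalizerMonoidHom (S : Subgroup G))).range
    haveI := isSolvable_normalizer S
    haveI : Group.IsSolvable Yb :=
      Group.isSolvable_of_surjective (f := (π.comp (normalizerMonoidHom (S : Subgroup G))).rangeRestrict)
        (MonoidHom.rangeRestrict_surjective _)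
    haveI : Yb.Normal := ⟨by
      rintro _ ⟨g, rfl⟩ v
      obtain ⟨φ, hφT, rfl⟩ : v ∈ Tb := hTtop.symm ▸ mem_top v
      obtain ⟨σ, hσ⟩ := hT hφT
      obtain ⟨hg, e⟩ := extenders_normalizer hσ g
      refine ⟨⟨σ g, hg⟩, ?_⟩
      show π _ = π φ * π _ * (π φ)⁻¹
      rw [← e, map_mul, map_mul, map_inv]⟩
    have hYne : Yb ≠ ⊥ := by
      obtain ⟨g, hgN, hgo, hgC⟩ := hodd
      intro hbot
      apply hgC
      have h1 : π (normalizerMonoidHom (S : Subgroup G) ⟨g, hgN⟩) = 1 :=
        (Subgroup.eq_bot_iff_forall _).1 hbot _ ⟨⟨g, hgN⟩, rfl⟩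
      have h2 := hker _ (MonoidHom.mem_ker.2 h1) (hgo.of_dvd_nat ((orderOf_map_dvd _ _).trans
        (dvd_of_eq (Subgroup.orderOf_mk g hgN))))
      rw [mem_centralizer_iff]
      intro s hs
      have h3 : g * s * g⁻¹ = s := congrArg Subtype.val (MulEquiv.congr_fun h2 ⟨s, hs⟩)
      exact (mul_inv_eq_iff_eq_mul.1 h3).symm
    haveI htopP : Group.IsPerfect (⊤ : Subgroup (MulAut ((S : Subgroup G) ⧸ Φ))) := hTtop ▸ (inferInstance : Group.IsPerfect Tb)
    haveI := Group.IsPerfect.top_iff.1 htopP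
    have hcA : Nat.card (MulAut ((S : Subgroup G) ⧸ Φ)) = 168 := by rw [← Subgroup.card_top, ← hTtop, hTc]
    have hq := perfect_dvd_168 (Q := MulAut ((S : Subgroup G) ⧸ Φ) ⧸ Yb)
      ((Subgroup.card_quotient_dvd_card Yb).trans h168) fun hc => hYne (by
        have h := Subgroup.card_eq_card_quotient_mul_card_subgroup Yb
        rw [hc, hcA] at h
        exact Subgroup.eq_bot_of_card_eq _ (by omega))
    have hYtop : Yb = ⊤ := eq_top_iff.2 fun x _ => (QuotientGroup.eq_one_iff x).1 (hq _)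
    haveI : Group.IsSolvable (MulAut ((S : Subgroup G) ⧸ Φ)) := Group.isSolvable_of_surjective
      (f := Yb.subtype) fun x => ⟨⟨x, hYtop ▸ mem_top x⟩, rfl⟩
    have h1 : ∀ x : MulAut ((S : Subgroup G) ⧸ Φ), x = 1 := perfect_subsingleton inferInstance
    rw [Nat.card_eq_one_iff_unique.2 ⟨⟨fun a b => (h1 a).trans (h1 b).symm⟩, ⟨1⟩⟩] at hcA
    omega
  have hle : T ≤ π.ker := fun t ht => MonoidHom.mem_ker.2
    ((Subgroup.eq_bot_iff_forall _).1 hTb _ (mem_map_of_mem π ht))
  exact (Subgroup.eq_bot_iff_forall _).2 fun t ht =>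
    congrArg Subtype.val (congrArg Subtype.val (show (⟨⟨t, hle ht⟩, mem_subgroupOf.2 ht⟩ : T.subgroupOf π.ker) = 1 from by
      haveI : Group.IsPerfect (T.subgroupOf π.ker) :=
        Group.IsPerfect.ofSurjective (f := (subgroupOfEquivOfLe hle).symm.toMonoidHom) (MulEquiv.surjective _)
      exact perfect_subsingleton inferInstance _))

end Cfsg.Lib.OutSol
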