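import Cfsg.Agent.OutSol.Residual
import Cfsg.Agent.Components.Misc.Zsigmondy
import Mathlib

/-!
Perfect subgroups of a group normalising a subgroup transitive on the nonzero vectors.
-/

set_option autoImplicit false
set_option linter.style.haveILetI false
set_option linter.unusedSectionVars false

namespace Cfsg.Lib.OutSol

open Subgroup
open scoped Pointwise

universe u v

variable {X : Type u} [Group X] [Finite X] {U : Type v} [AddCommGroup U] [Module (ZMod 2) U] [Finite U]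
  (ρ : X →* Module.End (ZMod 2) U)

theorem apply_mul (g h : X) (x : U) : ρ (g * h) x = ρ g (ρ h x) := by
  rw [map_mul, Module.End.mul_apply]

theorem apply_inv (g : X) (x : U) : ρ g⁻¹ (ρ g x) = x := by
  rw [← apply_mul ρ, inv_mul_cancel, map_one, Module.End.one_apply]

theorem apply_inv' (g : X) (x : U) : ρ g (ρ g⁻¹ x) = x := by
  rw [← apply_mul ρ, mul_inv_cancel, map_one, Module.End.one_apply]

/-- The elements fixing a vector. -/
def fixer (u : U) : Subgroup X where
  carrier := {g | ρ g u = u}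
  one_mem' := by simp
  mul_mem' := fun {a b} (ha : ρ a u = u) (hb : ρ b u = u) => by
    show ρ (a * b) u = u
    rw [apply_mul, hb, ha]
  inv_mem' := fun {a} (ha : ρ a u = u) => by
    show ρ a⁻¹ u = u
    conv_lhs => rw [← ha, apply_inv]

/-- The elements mapping a subspace onto itself. -/
def keeper (W : Submodule (ZMod 2) U) : Subgroup X where
  carrier := {g | ∀ x, ρ g x ∈ W ↔ x ∈ W}
  one_mem' := fun x => by simp
  mul_mem' := fun {a b} (ha : ∀ x, ρ a x ∈ W ↔ x ∈ W) (hb : ∀ x, ρ b x ∈ W ↔ x ∈ W) x => by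
    rw [apply_mul, ha, hb]
  inv_mem' := fun {a} (ha : ∀ x, ρ a x ∈ W ↔ x ∈ W) x => by
    rw [← ha, apply_inv']

theorem mem_fixer {g : X} {u : U} : g ∈ fixer ρ u ↔ ρ g u = u := Iff.rfl

theorem mem_keeper {g : X} {W : Submodule (ZMod 2) U} : g ∈ keeper ρ W ↔ ∀ x, ρ g x ∈ W ↔ x ∈ W := Iff.rfl

theorem mem_keeper_of_maps {g : X} {W : Submodule (ZMod 2) U} (h : ∀ w ∈ W, ρ g w ∈ W) :
    g ∈ keeper ρ W := fun x => by
  refine ⟨fun hx => ?_, h x⟩
  have hi : Function.Injective (fun w : W => (⟨ρ g w, h w w.2⟩ : W)) := fun a b e => Subtype.ext <| by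
    have e' : ρ g (a : U) = ρ g (b : U) := congrArg Subtype.val e
    rw [← apply_inv ρ g (a : U), e', apply_inv]
  obtain ⟨w, hw⟩ := Finite.injective_iff_surjective.1 hi ⟨_, hx⟩
  have e : ρ g (w : U) = ρ g x := congrArg Subtype.val hw
  rw [← apply_inv ρ g x, ← e, apply_inv]
  exact w.2

theorem card_modEq {r : ℕ} [Fact r.Prime] (R : Subgroup X) (hR : IsPGroup r R) (W : Submodule (ZMod 2) U)
    (hW : R ≤ keeper ρ W) :
    Nat.card W ≡ Nat.card {w : W // R ≤ fixer ρ (w : U)} [MOD r] := by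
  letI : MulAction R W :=
    { smul := fun g w => ⟨ρ g w, (hW g.2 w).2 w.2⟩
      one_smul := fun w => Subtype.ext (by show ρ 1 (w : U) = w; simp)
      mul_smul := fun g h w => Subtype.ext (apply_mul ρ g h w) }
  have h := hR.card_modEq_card_fixedPoints W
  rwa [Nat.card_congr (Equiv.subtypeEquivRight (p := fun w : W => w ∈ MulAction.fixedPoints R W)
    (q := fun w : W => R ≤ fixer ρ (w : U)) fun w =>
      ⟨fun hw g hg => congrArg Subtype.val (hw ⟨g, hg⟩), fun hw g => Subtype.ext (hw g.2)⟩)] at h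

theorem card_modEq_one {r : ℕ} [Fact r.Prime] (R : Subgroup X) (hR : IsPGroup r R) (W : Submodule (ZMod 2) U)
    (hW : R ≤ keeper ρ W) (hfp : ∀ u ∈ W, R ≤ fixer ρ u → u = 0) : Nat.card W ≡ 1 [MOD r] := by
  have h := card_modEq ρ R hR W hW
  have e : Nat.card {w : W // R ≤ fixer ρ (w : U)} = 1 := Nat.card_eq_one_iff_unique.2
    ⟨⟨fun a b => Subtype.ext (Subtype.ext ((hfp _ a.1.2 a.2).trans (hfp _ b.1.2 b.2).symm))⟩,
      ⟨⟨0, fun g _ => map_zero (ρ g)⟩⟩⟩
  rwa [e] at h

theorem commute_of_irreducible (Z a b : Module.End (ZMod 2) U)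
    (hirr : ∀ W : Submodule (ZMod 2) U, (∀ x ∈ W, Z x ∈ W) → W = ⊥ ∨ W = ⊤)
    (ha : a * Z = Z * a) (hb : b * Z = Z * b) : a * b = b * a := by
  rcases subsingleton_or_nontrivial U with h | h
  · exact LinearMap.ext fun x => Subsingleton.elim _ _
  obtain ⟨u₀, hu₀⟩ := exists_ne (0 : U)
  let L := Algebra.adjoin (ZMod 2) ({Z} : Set (Module.End (ZMod 2) U))
  have hL : ∀ g : Module.End (ZMod 2) U, g * Z = Z * g → ∀ f ∈ L, g * f = f * g := by
    intro g hg f hf
    induction hf using Algebra.adjoin_induction with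
    | mem x hx => rw [Set.mem_singleton_iff.1 hx]; exact hg
    | algebraMap r => exact (Algebra.commutes r g).symm
    | add x y _ _ hx hy => rw [mul_add, add_mul, hx, hy]
    | mul x y _ _ hx hy => rw [← mul_assoc, hx, mul_assoc, hy, mul_assoc]
  have horb : (Subalgebra.toSubmodule L).map (LinearMap.applyₗ u₀ : Module.End (ZMod 2) U →ₗ[ZMod 2] U) = ⊤ := by
    refine (hirr _ ?_).resolve_left fun h => hu₀ ((Submodule.eq_bot_iff _).1 h u₀ ⟨1, L.one_mem, rfl⟩)
    rintro _ ⟨f, hf, rfl⟩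
    exact ⟨Z * f, L.mul_mem (Algebra.self_mem_adjoin_singleton _ Z) hf, rfl⟩
  have key : ∀ g : Module.End (ZMod 2) U, g * Z = Z * g → ∃ f ∈ L, g = f := by
    intro g hg
    obtain ⟨f, hf, e⟩ := horb.ge (Submodule.mem_top (x := g u₀))
    refine ⟨f, hf, sub_eq_zero.1 (LinearMap.ker_eq_top.1 ((hirr _ fun x hx => ?_).resolve_left fun h => ?_))⟩
    · have hfZ : f * Z = Z * f := (hL Z rfl f hf).symm
      rw [LinearMap.mem_ker] at hx ⊢
      rw [← Module.End.mul_apply, sub_mul, hg, hfZ, ← mul_sub, Module.End.mul_apply, hx, map_zero]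
    · exact hu₀ ((Submodule.eq_bot_iff _).1 h u₀ (by
        rw [LinearMap.mem_ker, LinearMap.sub_apply, sub_eq_zero]; exact e.symm))
  obtain ⟨f, hf, rfl⟩ := key b hb
  exact hL a ha b hf

theorem card_dvd_of_transitive (Y : Subgroup X)
    (htr : ∀ u v : U, u ≠ 0 → v ≠ 0 → ∃ y ∈ Y, ρ y u = v) {v₀ : U} (hv : v₀ ≠ 0) :
    (fixer ρ v₀ ⊓ Y).relIndex Y = Nat.card U - 1 ∧ Nat.card U - 1 ∣ Nat.card Y := by
  classical
  letI : MulAction Y {u : U // u ≠ 0} :=
    { smul := fun g u => ⟨ρ g u, fun h => u.2 (by rw [← apply_inv ρ (g : X) (u : U), h, map_zero])⟩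
      one_smul := fun u => Subtype.ext (by show ρ 1 (u : U) = u; simp)
      mul_smul := fun g h u => Subtype.ext (apply_mul ρ g h u) }
  haveI : MulAction.IsPretransitive Y {u : U // u ≠ 0} := ⟨fun a b => by
    obtain ⟨y, hy, e⟩ := htr a b a.2 b.2
    exact ⟨⟨y, hy⟩, Subtype.ext e⟩⟩
  have h := MulAction.index_stabilizer_of_transitive Y (⟨v₀, hv⟩ : {u : U // u ≠ 0})
  have hc : Nat.card {u : U // u ≠ 0} = Nat.card U - 1 := by
    haveI := Fintype.ofFinite U
    rw [Nat.card_eq_fintype_card, Nat.card_eq_fintype_card, Fintype.card_subtype_compl,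
      Fintype.card_subtype_eq]
  have he : (fixer ρ v₀ ⊓ Y).subgroupOf Y = MulAction.stabilizer Y (⟨v₀, hv⟩ : {u : U // u ≠ 0}) := by
    ext g
    rw [mem_subgroupOf, mem_inf, MulAction.mem_stabilizer_iff]
    exact ⟨fun h => Subtype.ext h.1, fun h => ⟨congrArg Subtype.val h, g.2⟩⟩
  refine ⟨?_, ?_⟩
  · rw [relIndex, he, h, hc]
  · rw [← hc, ← h]; exact Subgroup.index_dvd_card _

/-- The Frattini argument for perfect subgroups. -/
theorem le_of_sylow_normalizer (Y : Subgroup X) [Y.Normal] {r : ℕ} [Fact r.Prime] (R : Sylow r Y)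
    (h : ∀ T : Subgroup X, Group.IsPerfect T → T ≤ normalizer (((R : Subgroup Y).map Y.subtype : Subgroup X) : Set X) → T ≤ Y)
    (T : Subgroup X) [Group.IsPerfect T] : T ≤ Y := by
  set N := normalizer (((R : Subgroup Y).map Y.subtype : Subgroup X) : Set X)
  let f : N →* X ⧸ Y := (QuotientGroup.mk' Y).comp N.subtype
  have hf : Function.Surjective f := fun q => by
    obtain ⟨x, rfl⟩ := QuotientGroup.mk'_surjective Y q
    have hx : x ∈ (N : Set X) * (Y : Set X) := by
      rw [← Subgroup.mul_normal, Sylow.normalizer_sup_eq_top R]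
      exact mem_top x
    obtain ⟨n, hn, y, hy, rfl⟩ := Set.mem_mul.1 hx
    refine ⟨⟨n, hn⟩, ?_⟩
    show (n : X ⧸ Y) = ((n * y : X) : X ⧸ Y)
    rw [QuotientGroup.mk_mul, (QuotientGroup.eq_one_iff y).2 hy, _root_.mul_one]
  haveI := exists_perfect_solvable_quotient f.ker fun T' hT' => by
    intro t ht
    haveI := hT'
    have h1 := h (T'.map N.subtype) (Group.IsPerfect.map _)
      (by rintro _ ⟨s, -, rfl⟩; exact s.2) (mem_map_of_mem _ ht)
    exact (QuotientGroup.eq_one_iff (t : X)).2 h1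
  haveI : Group.IsSolvable (X ⧸ Y) :=
    Group.isSolvable_of_surjective (f := (QuotientGroup.quotientKerEquivOfSurjective f hf).toMonoidHom)
      (MulEquiv.surjective _)
  intro t ht
  exact (QuotientGroup.eq_one_iff t).1 (perfect_hom_trivial ((QuotientGroup.mk' Y).comp T.subtype) ⟨t, ht⟩)

theorem commute_of_normalizes (R : Subgroup X) [IsCyclic R] (T : Subgroup X) [Group.IsPerfect T]
    (hT : T ≤ normalizer (R : Set X)) : ∀ t ∈ T, ∀ r ∈ R, t * r = r * t := by
  intro t ht r hr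
  have h := perfect_hom_trivial_comm (H := MulAut R) (fun a b => by
      obtain ⟨e⟩ : Nonempty (MulAut R ≃* (ZMod (Nat.card R))ˣ) := ⟨IsCyclic.mulAutMulEquiv R⟩
      exact e.injective (by rw [map_mul, map_mul, mul_comm]))
    ((normalizerMonoidHom R).comp (Subgroup.inclusion hT)) ⟨t, ht⟩
  have h1 : t * r * t⁻¹ = r := congrArg Subtype.val (MulEquiv.congr_fun h ⟨r, hr⟩)
  exact mul_inv_eq_iff_eq_mul.1 h1

theorem trivial_of_commute (hρ : Function.Injective ρ) (z : X)
    (hirr : ∀ W : Submodule (ZMod 2) U, (∀ x ∈ W, ρ z x ∈ W) → W = ⊥ ∨ W = ⊤)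
    (T : Subgroup X) [Group.IsPerfect T] (hT : ∀ t ∈ T, t * z = z * t) : T = ⊥ := by
  have hc : ∀ a b : T, a * b = b * a := fun a b => Subtype.ext <| hρ <| by
    push_cast
    rw [map_mul, map_mul]
    exact commute_of_irreducible (ρ z) _ _ hirr (by rw [← map_mul, hT a a.2, map_mul])
      (by rw [← map_mul, hT b b.2, map_mul])
  haveI := Group.isSolvable_of_comm hc
  exact (Subgroup.eq_bot_iff_forall _).2 fun t ht => congrArg Subtype.val (perfect_subsingleton (T := T) inferInstance ⟨t, ht⟩)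

theorem isCyclic_of_commute_irreducible (hρ : Function.Injective ρ) (z : X) (R : Subgroup X)
    (hirr : ∀ W : Submodule (ZMod 2) U, (∀ x ∈ W, ρ z x ∈ W) → W = ⊥ ∨ W = ⊤) [Nontrivial U]
    (hR : ∀ r ∈ R, r * z = z * r) : IsCyclic R := by
  let S := Subring.centralizer ({ρ z} : Set (Module.End (ZMod 2) U))
  have hS : ∀ a : S, (a : Module.End (ZMod 2) U) * ρ z = ρ z * a := fun a =>
    (Subring.mem_centralizer_iff.1 a.2 _ rfl).symm
  letI : CommRing S := { (inferInstance : Ring S) with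
    mul_comm := fun a b => Subtype.ext (commute_of_irreducible (ρ z) _ _ hirr (hS a) (hS b)) }
  obtain ⟨v₀, hv₀⟩ := exists_ne (0 : U)
  haveI : Nontrivial S := ⟨⟨1, 0, fun h => hv₀ (LinearMap.congr_fun (congrArg Subtype.val h) v₀)⟩⟩
  have hker : ∀ a : S, a ≠ 0 → LinearMap.ker (a : Module.End (ZMod 2) U) = ⊥ := fun a ha => by
    refine (hirr _ fun x hx => ?_).resolve_right fun h => ha (Subtype.ext (LinearMap.ker_eq_top.1 h))
    rw [LinearMap.mem_ker] at hx ⊢
    rw [← Module.End.mul_apply, hS a, Module.End.mul_apply, hx, map_zero]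
  haveI : NoZeroDivisors S := ⟨fun {a b} h => or_iff_not_imp_left.2 fun ha => Subtype.ext <| LinearMap.ext fun x => by
    refine LinearMap.ker_eq_bot.1 (hker a ha) ?_
    have h' := LinearMap.congr_fun (congrArg Subtype.val h) x
    rw [Subring.coe_mul, Module.End.mul_apply] at h'
    rw [h']
    simp⟩
  haveI : IsDomain S := NoZeroDivisors.to_isDomain S
  have hmem : ∀ r : R, ρ r ∈ S := fun r => Subring.mem_centralizer_iff.2 (by
    rintro _ rfl
    rw [← map_mul, ← map_mul, hR r r.2])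
  exact isCyclic_of_subgroup_isDomain
    ({ toFun := fun r => (⟨ρ r, hmem r⟩ : S)
       map_one' := Subtype.ext (map_one ρ)
       map_mul' := fun a b => Subtype.ext (map_mul ρ (a : X) b) } : R →* S)
    fun a b e => Subtype.ext (hρ (congrArg Subtype.val e))

/-- The case of a primitive prime divisor. -/
theorem perfect_le_of_primitive (hρ : Function.Injective ρ) (Y : Subgroup X) [Y.Normal]
    (htr : ∀ u v : U, u ≠ 0 → v ≠ 0 → ∃ y ∈ Y, ρ y u = v) {n r : ℕ} [hr : Fact r.Prime]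
    (hU : Nat.card U = 2 ^ n) (hn : 0 < n) (hrd : r ∣ 2 ^ n - 1)
    (hprim : ∀ k : ℕ, 0 < k → k < n → ¬ r ∣ 2 ^ k - 1) (T : Subgroup X) [Group.IsPerfect T] : T ≤ Y := by
  haveI : Fact (Nat.Prime 2) := ⟨Nat.prime_two⟩
  haveI : Nontrivial U := Finite.one_lt_card_iff_nontrivial.1 (by rw [hU]; exact Nat.one_lt_two_pow hn.ne')
  obtain ⟨v₀, hv₀⟩ := exists_ne (0 : U)
  have hfin : Module.finrank (ZMod 2) U = n := by
    have h := Module.natCard_eq_pow_finrank (K := ZMod 2) (V := U)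
    rw [hU, Nat.card_zmod] at h
    exact (Nat.pow_right_injective le_rfl h).symm
  have hdimcases : ∀ W : Submodule (ZMod 2) U, Nat.card W ≡ 1 [MOD r] → W = ⊥ ∨ W = ⊤ := by
    intro W hW
    rw [Module.natCard_eq_pow_finrank (K := ZMod 2) (V := W), Nat.card_zmod] at hW
    by_cases h0 : Module.finrank (ZMod 2) W = 0
    · exact Or.inl (Submodule.finrank_eq_zero.1 h0)
    refine Or.inr (by_contra fun htop => hprim _ (Nat.pos_of_ne_zero h0) ?_ ?_)
    · rw [← hfin]; exact Submodule.finrank_lt htop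
    · exact (Nat.modEq_iff_dvd' (Nat.one_le_two_pow)).1 hW.symm
  have hrY : r ∣ Nat.card Y := hrd.trans (hU ▸ (card_dvd_of_transitive ρ Y htr hv₀).2)
  obtain ⟨R⟩ : Nonempty (Sylow r Y) := inferInstance
  refine le_of_sylow_normalizer Y R (fun T' hT' hle => ?_) T
  haveI := hT'
  set Rx : Subgroup X := (R : Subgroup Y).map Y.subtype
  have hRp : IsPGroup r Rx := R.isPGroup'.map _
  haveI : Nontrivial Rx := Finite.one_lt_card_iff_nontrivial.1 (by
    rw [Subgroup.card_map_of_injective Y.subtype_injective]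
    exact lt_of_lt_of_le hr.out.one_lt (Nat.le_of_dvd Nat.card_pos (R.dvd_card_of_dvd_card hrY)))
  haveI := hRp.center_nontrivial
  obtain ⟨k, hk0, hk⟩ : ∃ k, 0 < k ∧ Nat.card (center Rx) = r ^ k := by
    obtain ⟨k, hk⟩ := (hRp.to_subgroup (center Rx)).exists_card_eq
    refine ⟨k, Nat.pos_of_ne_zero fun h => ?_, hk⟩
    rw [h, pow_zero] at hk
    exact absurd (Finite.one_lt_card (α := center Rx)) (by omega)
  obtain ⟨⟨⟨z, hzR⟩, hzc⟩, hz⟩ := exists_prime_orderOf_dvd_card' r (by rw [hk]; exact dvd_pow_self r hk0.ne')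
  have hzo : orderOf z = r := by
    rw [Subgroup.orderOf_mk, Subgroup.orderOf_mk] at hz
    exact hz
  have hRc : ∀ g ∈ Rx, g * z = z * g := fun g hg => congrArg Subtype.val (mem_center_iff.1 hzc ⟨g, hg⟩)
  have hzp : IsPGroup r (zpowers z) := IsPGroup.of_card (n := 1) (by rw [Nat.card_zpowers, hzo, pow_one])
  let F : Submodule (ZMod 2) U := LinearMap.ker (ρ z - 1)
  have hF : ∀ x, x ∈ F ↔ ρ z x = x := fun x => by
    rw [LinearMap.mem_ker, LinearMap.sub_apply, Module.End.one_apply, sub_eq_zero]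
  have hFbot : F = ⊥ := by
    refine (hdimcases F ?_).resolve_right fun h => ?_
    · have h1 := card_modEq ρ (zpowers z) hzp ⊤ (fun g _ x => by simp)
      have e : Nat.card {w : (⊤ : Submodule (ZMod 2) U) // zpowers z ≤ fixer ρ (w : U)} = Nat.card F :=
        Nat.card_congr
          { toFun := fun w => ⟨(w.1 : U), (hF _).2 (w.2 (mem_zpowers z))⟩
            invFun := fun x => ⟨⟨(x : U), trivial⟩, by
              rw [zpowers_le]; exact (mem_fixer ρ).2 ((hF _).1 x.2)⟩
            left_inv := fun w => rfl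
            right_inv := fun x => rfl }
      rw [e, Nat.card_congr (Submodule.topEquiv (R := ZMod 2) (M := U)).toEquiv, hU] at h1
      exact h1.symm.trans (((Nat.modEq_iff_dvd' Nat.one_le_two_pow).2 hrd).symm)
    · have : z = 1 := hρ (LinearMap.ext fun x => by rw [map_one]; exact (hF x).1 (h.ge trivial))
      rw [this, orderOf_one] at hzo
      exact hr.out.one_lt.ne hzo
  have hirr : ∀ W : Submodule (ZMod 2) U, (∀ x ∈ W, ρ z x ∈ W) → W = ⊥ ∨ W = ⊤ := fun W hW =>
    hdimcases W (card_modEq_one ρ (zpowers z) hzp W (by rw [zpowers_le]; exact mem_keeper_of_maps ρ hW)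
      fun u _ hu => (Submodule.eq_bot_iff F).1 hFbot u ((hF u).2 (hu (mem_zpowers z))))
  haveI := isCyclic_of_commute_irreducible ρ hρ z Rx hirr hRc
  rw [trivial_of_commute ρ hρ z hirr T' fun t ht => commute_of_normalizes Rx T' hle t ht z hzR]
  exact bot_le

end Cfsg.Lib.OutSol
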